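import Cfsg.Agent.Lib.PGroup.ThreeSizes.ThreePrimes
import Cfsg.Agent.Lib.PGroup.Kazarin
import Mathlib.GroupTheory.Transfer

/-!
Groups with class sizes `1, n₂, n₁` are solvable.
-/

set_option autoImplicit false
set_option linter.style.haveILetI false
set_option linter.unusedSectionVars false

namespace CfsgLib.ThreeSizes

open Subgroup
open CfsgLib.ThreeCop (IsQ Full vq mem_cent isQ_of_mem mem_normalizer_of_conj self_mem_cent)
open CfsgLib.ClassGraph (cidx)

universe u

variable {G : Type u} [Group G] [Finite G]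

/-- No centraliser of a noncentral element properly contains another. -/
def NoCont (G : Type u) [Group G] : Prop :=
  ∀ g x : G, g ∉ center G → x ∉ center G →
    centralizer ({g} : Set G) ≤ centralizer ({x} : Set G) →
    centralizer ({g} : Set G) = centralizer ({x} : Set G)

/-- A noncentral element has a noncentral part of prime power order. -/
theorem exists_part {g : G} (hg : g ∉ center G) :
    ∃ (p : ℕ) (a : G), p.Prime ∧ IsQ p a ∧ a ∉ center G ∧ a ∈ zpowers g ∧
      centralizer ({g} : Set G) ≤ centralizer ({a} : Set G) := by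
  set π := QuotientGroup.mk' (center G)
  have h1 : π g ≠ 1 := fun e => hg ((QuotientGroup.eq_one_iff g).1 e)
  have h2 : orderOf (π g) ≠ 1 := fun e => h1 (orderOf_eq_one_iff.1 e)
  haveI := Fact.mk (Nat.minFac_prime h2)
  obtain ⟨a, b, hab, he, ha, hb, haz, -⟩ := ThreeCop.parts (orderOf (π g)).minFac g
  refine ⟨_, a, Nat.minFac_prime h2, ha, fun haZ => hb ?_, haz, fun w hw => ?_⟩
  · have h3 : π g = π b := by
      rw [he, map_mul, show π a = 1 from (QuotientGroup.eq_one_iff a).2 haZ, one_mul]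
    exact (Nat.minFac_dvd _).trans (h3 ▸ orderOf_map_dvd π b)
  · obtain ⟨j, hj⟩ := haz
    rw [← hj]
    exact mem_cent.2 ((mem_cent.1 hw).zpow_right j)

variable (hN : NoCont G)

include hN in
theorem cent_part {g : G} (hg : g ∉ center G) :
    ∃ (p : ℕ) (a : G), p.Prime ∧ IsQ p a ∧ a ∉ center G ∧ a ∈ zpowers g ∧
      centralizer ({g} : Set G) = centralizer ({a} : Set G) := by
  obtain ⟨p, a, hp, ha, haZ, haz, hle⟩ := exists_part hg
  exact ⟨p, a, hp, ha, haZ, haz, hN g a hg haZ hle⟩

include hN in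
theorem cent_eq {p r : ℕ} (hp : p.Prime) (hr : r.Prime) (hne : p ≠ r) {x y : G} (hx : IsQ p x)
    (hy : IsQ r y) (hxZ : x ∉ center G) (hyZ : y ∉ center G) (hc : Commute x y) :
    centralizer ({x} : Set G) = centralizer ({y} : Set G) := by
  have hco := coprime_of_isQ hp hr hne hx hy
  have hxy := mul_not_center hc hco hxZ
  have hle := ClassGraph.centralizer_mul_le hc hco
  rw [← hN _ x hxy hxZ (hle.trans inf_le_left), ← hN _ y hxy hyZ (hle.trans inf_le_right)]

/-- The centraliser of the `p`-element `x` contains noncentral elements of two primes. -/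
def Mixed (p : ℕ) (x : G) : Prop :=
  ∃ r : ℕ, ∃ y ∈ centralizer ({x} : Set G), r.Prime ∧ r ≠ p ∧ IsQ r y ∧ y ∉ center G

variable {p : ℕ} (hp : p.Prime) {x : G} (hx : IsQ p x) (hxZ : x ∉ center G) (hm : Mixed p x)

include hN hp hx hxZ hm in
theorem Mixed.self {g : G} (hg : g ∈ centralizer ({x} : Set G)) (hgZ : g ∉ center G) :
    centralizer ({g} : Set G) = centralizer ({x} : Set G) := by
  obtain ⟨q, a, hq, ha, haZ, haz, heq⟩ := cent_part hN hgZ
  rw [heq]
  have hax : a ∈ centralizer ({x} : Set G) := zpowers_le.2 hg haz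
  by_cases hqp : q = p
  · subst hqp
    obtain ⟨r, y, hy, hr, hrq, hyq, hyZ⟩ := hm
    have e := cent_eq hN hp hr hrq.symm hx hyq hxZ hyZ (mem_cent.1 hy).symm
    rw [e] at hax ⊢
    exact cent_eq hN hp hr hrq.symm ha hyq haZ hyZ (mem_cent.1 hax)
  · exact cent_eq hN hq hp hqp ha hx haZ hxZ (mem_cent.1 hax)

include hN hp hx hxZ hm in
theorem Mixed.comm {g w : G} (hg : g ∈ centralizer ({x} : Set G))
    (hw : w ∈ centralizer ({x} : Set G)) : Commute g w := by
  by_cases hgZ : g ∈ center G
  · exact (ThreeCop.commute_center hgZ w).symm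
  · rw [← hm.self hN hp hx hxZ hg hgZ] at hw
    exact (mem_cent.1 hw).symm

include hN hp hx hxZ hm in
theorem Mixed.good {r : ℕ} {a : G} (ha : a ∈ centralizer ({x} : Set G)) (har : IsQ r a)
    (haZ : a ∉ center G) (hlt : vq r (centralizer ({x} : Set G)) < vq r (⊤ : Subgroup G)) :
    Good (⊤ : Subgroup G) (centralizer ({x} : Set G)) (center G) r :=
  ⟨fun _ hg _ _ hw => hm.comm hN hp hx hxZ hg hw, ⟨a, ha, har, haZ⟩,
    fun g hg _ hgZ => by rw [top_inf_eq, hm.self hN hp hx hxZ hg hgZ], hlt⟩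

include hN hp hx hxZ hm in
theorem Mixed.two_deficient {r t : ℕ} (hr : r.Prime) (ht : t.Prime) (hrt : r ≠ t) {a b : G}
    (ha : a ∈ centralizer ({x} : Set G)) (har : IsQ r a) (haZ : a ∉ center G)
    (hb : b ∈ centralizer ({x} : Set G)) (hbt : IsQ t b) (hbZ : b ∉ center G)
    (hlr : vq r (centralizer ({x} : Set G)) < vq r (⊤ : Subgroup G))
    (hlt : vq t (centralizer ({x} : Set G)) < vq t (⊤ : Subgroup G)) : False := by
  haveI := Fact.mk hr
  haveI := Fact.mk ht
  exact pair_false (D := ⊤) (B := centralizer ({x} : Set G)) (Z₀ := center G) (t := r) (q := t)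
    hrt (fun z hz g _ => ThreeCop.commute_center hz g) (hm.good hN hp hx hxZ ha har haZ hlr)
    (hm.good hN hp hx hxZ hb hbt hbZ hlt)

theorem vq_le_top (r : ℕ) (H : Subgroup G) : vq r H ≤ vq r (⊤ : Subgroup G) :=
  (Nat.factorization_le_iff_dvd Nat.card_pos.ne' Nat.card_pos.ne').2 (card_dvd_of_le le_top) r

variable {n₁ n₂ : ℕ}

theorem vq_eq_of_cidx {g g' : G} (he : cidx g = cidx g') (r : ℕ) :
    vq r (centralizer ({g} : Set G)) = vq r (centralizer ({g'} : Set G)) := by
  have h1 := ThreeCop.vq_add r g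
  have h2 := ThreeCop.vq_add r g'
  rw [he] at h1
  omega

theorem exists_in_cidx {g g' : G} (he : cidx g = cidx g') {r : ℕ} [Fact r.Prime] {a : G}
    (ha : a ∈ centralizer ({g} : Set G)) (har : IsQ r a) (haZ : a ∉ center G) :
    ∃ b ∈ centralizer ({g'} : Set G), IsQ r b ∧ b ∉ center G :=
  exists_elem (B' := centralizer ({g} : Set G)) (vq_eq_of_cidx he r).le
    (fun _ hw _ => center_le_centralizer _ hw) ha har haZ
    fun w hw _ => ThreeCop.commute_center hw a

/-- The number of noncentral elements covered by the conjugates of `C`. -/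
theorem ncard_conj_le (C : Subgroup G) (hZ : center G ≤ C) :
    {g : G | g ∉ center G ∧ ∃ c : G, c * g * c⁻¹ ∈ C}.ncard ≤
      (normalizer (C : Set G)).index * (Nat.card C - Nat.card (center G)) := by
  classical
  set N := normalizer (C : Set G) with hN
  let S : Set G := (C : Set G) \ (center G : Set G)
  let φ : (G ⧸ N) × S → G := fun w => w.1.out * (w.2 : G) * w.1.out⁻¹
  have hsub : {g : G | g ∉ center G ∧ ∃ c : G, c * g * c⁻¹ ∈ C} ⊆ φ '' Set.univ := by
    rintro g ⟨hg, c, hc⟩
    set q : G ⧸ N := QuotientGroup.mk c⁻¹ with hq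
    have hn : c * q.out ∈ N := by
      have h1 : (q.out : G ⧸ N) = ((c⁻¹ : G) : G ⧸ N) := by rw [QuotientGroup.out_eq', hq]
      have h2 := N.inv_mem (QuotientGroup.eq.1 h1)
      simpa [mul_inv_rev] using h2
    have hw : q.out⁻¹ * g * q.out ∈ C := by
      have h3 := (mem_normalizer_iff.1 (N.inv_mem hn) _).1 hc
      simpa [mul_assoc] using h3
    refine ⟨(q, ⟨q.out⁻¹ * g * q.out, hw, fun hz => hg ?_⟩), Set.mem_univ _, ?_⟩
    · simpa [mul_assoc] using (inferInstance : (center G).Normal).conj_mem _ hz q.out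
    · show q.out * (q.out⁻¹ * g * q.out) * q.out⁻¹ = g
      group
  have h2 : S.ncard = Nat.card C - Nat.card (center G) := by
    rw [Set.ncard_sdiff hZ]
    rfl
  calc {g : G | g ∉ center G ∧ ∃ c : G, c * g * c⁻¹ ∈ C}.ncard ≤ (φ '' Set.univ).ncard :=
        Set.ncard_le_ncard hsub (Set.toFinite _)
    _ ≤ (Set.univ : Set ((G ⧸ N) × S)).ncard := Set.ncard_image_le (Set.toFinite _)
    _ = _ := by rw [Set.ncard_univ, Nat.card_prod, ← index_eq_card, Nat.card_coe_set_eq, h2]

theorem solvable_of_pGroup_mod_center {r : ℕ} [Fact r.Prime] (K : Subgroup G)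
    (h : ∀ g ∈ K, ∀ q : ℕ, q.Prime → q ≠ r → IsQ q g → g ∈ center G) : Group.IsSolvable K := by
  set π := (QuotientGroup.mk' (center G)).domRestrict K with hπ
  have hp : IsPGroup r π.range := by
    rintro ⟨_, g, rfl⟩
    obtain ⟨a, b, hab, hg, ha, hb, -, hbz⟩ := ThreeCop.parts r (g : G)
    obtain ⟨k, hk⟩ := ha
    refine ⟨k, Subtype.ext ?_⟩
    have hbK : b ∈ K := zpowers_le.2 g.2 hbz
    have hbZ : b ∈ center G := by
      by_contra hbn
      obtain ⟨q, w, hq, hw, hwZ, hwz, -⟩ := exists_part hbn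
      refine hwZ (h w (zpowers_le.2 hbK hwz) q hq ?_ hw)
      rintro rfl
      have h4 : orderOf w ∣ orderOf b := orderOf_dvd_of_mem_zpowers hwz
      exact hwZ (by rw [hw.eq_one fun hd => hb (hd.trans h4)]; exact one_mem _)
    show (QuotientGroup.mk' (center G) (g : G)) ^ r ^ k = 1
    rw [← map_pow, hg, hab.mul_pow, hk, one_mul]
    exact (QuotientGroup.eq_one_iff _).2 (pow_mem hbZ _)
  haveI : Group.IsNilpotent π.range := hp.isNilpotent
  haveI : Group.IsSolvable (center G) := by
    letI : CommGroup (center G) :=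
      { (inferInstance : Group (center G)) with
        mul_comm := fun a b => Subtype.ext (mem_center_iff.1 b.2 a) }
    infer_instance
  haveI : Group.IsSolvable π.ker := by
    have hle : π.ker.map K.subtype ≤ center G := by
      rintro _ ⟨g, hg, rfl⟩
      exact (QuotientGroup.eq_one_iff (g : G)).1 hg
    exact Group.isSolvable_of_isSolvable_injective
      (f := (inclusion hle).comp (π.ker.equivMapOfInjective K.subtype K.subtype_injective).toMonoidHom)
      (fun a b e => (π.ker.equivMapOfInjective K.subtype K.subtype_injective).injective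
        (inclusion_injective hle e))
  exact Group.isSolvable_of_ker_le_range π.ker.subtype π.rangeRestrict
    (by rw [MonoidHom.ker_rangeRestrict, range_subtype])

theorem solvable_of_commutator (h : Group.IsSolvable (commutator G)) : Group.IsSolvable G := by
  haveI := h
  exact Group.isSolvable_of_ker_le_range (commutator G).subtype (Abelianization.of (G := G))
    (by rw [Abelianization.ker_of, range_subtype])

variable (h : Hyp G n₁ n₂) (hG : ¬ Group.IsSolvable G)

include h hG in
/-- A non-solvable group with three class sizes: no pure centraliser. -/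
theorem no_pure (hN : NoCont G) {p : ℕ} (hp : p.Prime) {x : G} (hx : IsQ p x)
    (hxZ : x ∉ center G) : Mixed p x := by
  classical
  by_contra hpure
  have hcen : ∀ r : ℕ, r.Prime → r ≠ p → ∀ w ∈ centralizer ({x} : Set G), IsQ r w → w ∈ center G :=
    fun r hr hrp w hw hwq => by
      by_contra hwZ
      exact hpure ⟨r, w, hw, hr, hrp, hwq, hwZ⟩
  have hne : ∀ {r : ℕ}, r.Prime → r ≠ p → ∀ {y : G}, IsQ r y → y ∉ center G → cidx y ≠ cidx x := by
    intro r hr hrp y hy hyZ he
    haveI := Fact.mk hr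
    obtain ⟨b, hb, hbq, hbZ⟩ := exists_in_cidx he (self_mem_cent y) hy hyZ
    exact hbZ (hcen r hr hrp b hb hbq)
  have heq : ∀ {r t : ℕ}, r.Prime → r ≠ p → t.Prime → t ≠ p → ∀ {y z : G}, IsQ r y → y ∉ center G →
      IsQ t z → z ∉ center G → cidx y = cidx z := by
    intro r t hr hrp ht htp y z hy hyZ hz hzZ
    have h1 := hne hr hrp hy hyZ
    have h2 := hne ht htp hz hzZ
    rcases h.idx hxZ with e | e <;> rcases h.idx hyZ with e' | e' <;> rcases h.idx hzZ with e'' | e'' <;>
      omega
  have hmix : ∀ {r : ℕ}, r.Prime → r ≠ p → ∀ {y : G}, IsQ r y → y ∉ center G → Mixed r y := by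
    intro r hr hrp y hy hyZ
    obtain ⟨t, ht, htp, htr, z, hz, hzZ⟩ := exists_prime_ne hG hp hr
    haveI := Fact.mk ht
    obtain ⟨b, hb, hbq, hbZ⟩ := exists_in_cidx (heq ht htp hr hrp hz hzZ hy hyZ) (self_mem_cent z) hz hzZ
    exact ⟨t, b, hb, ht, htr, hbq, hbZ⟩
  -- the largest normal solvable subgroup
  obtain ⟨R, hR, hRmax⟩ : ∃ R : Subgroup G, (R.Normal ∧ Group.IsSolvable R) ∧
      ∀ S : Subgroup G, S.Normal → Group.IsSolvable S → R ≤ S → S = R := by
    obtain ⟨R, -, hR⟩ := exists_maximal_ge_of_wellFoundedGT (α := Subgroup G)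
      (fun S => S.Normal ∧ Group.IsSolvable S) ⊥ ⟨inferInstance, inferInstance⟩
    exact ⟨R, hR.prop, fun S h1 h2 h3 => le_antisymm (hR.le_of_ge ⟨h1, h2⟩ h3) h3⟩
  haveI := hR.1
  haveI := hR.2
  set π := QuotientGroup.mk' R with hπ
  have hsurj : Function.Surjective π := QuotientGroup.mk'_surjective R
  have hW : ∀ S : Subgroup (G ⧸ R), S.Normal → Group.IsSolvable S → S = ⊥ := by
    intro S hS hSs
    haveI := hSs
    haveI := hS
    have hle : R ≤ S.comap π := fun r hr => by
      rw [mem_comap, show π r = 1 from (QuotientGroup.eq_one_iff r).2 hr]; exact one_mem S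
    haveI : Group.IsSolvable (S.comap π) := Group.isSolvable_of_ker_le_range (inclusion hle)
      ((π.comp (S.comap π).subtype).codRestrict S fun g => g.2) (fun g hg => by
        have h1 : π (g : G) = 1 := congrArg Subtype.val (MonoidHom.mem_ker.1 hg)
        exact ⟨⟨g, (QuotientGroup.eq_one_iff _).1 h1⟩, Subtype.ext rfl⟩)
    have e := hRmax _ (hS.comap π) inferInstance hle
    rw [← map_comap_eq_self_of_surjective hsurj S, e]
    exact (map_eq_bot_iff R).2 (by rw [hπ, QuotientGroup.ker_mk'])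
  have hZR : center G ≤ R := by
    intro z hz
    by_contra hzR
    have h1 : π z ∈ center (G ⧸ R) := mem_center_iff.2 fun w => by
      obtain ⟨g, rfl⟩ := hsurj w
      rw [← map_mul, mem_center_iff.1 hz g, map_mul]
    haveI : Group.IsSolvable (center (G ⧸ R)) := by
      letI : CommGroup (center (G ⧸ R)) :=
        { (inferInstance : Group (center (G ⧸ R))) with
          mul_comm := fun a b => Subtype.ext (mem_center_iff.1 b.2 a) }
      infer_instance
    rw [hW (center (G ⧸ R)) inferInstance inferInstance, mem_bot] at h1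
    exact hzR ((QuotientGroup.eq_one_iff z).1 h1)
  have hWns : ¬ Group.IsSolvable (G ⧸ R) := fun hs => hG (by
    haveI := hs
    exact Group.isSolvable_of_ker_le_range R.subtype π (by rw [hπ, QuotientGroup.ker_mk', range_subtype]))
  -- choice of the prime
  let Def : ℕ → Prop := fun r => r.Prime ∧ r ≠ p ∧ r ∣ Nat.card (G ⧸ R) ∧
    ∃ y : G, IsQ r y ∧ y ∉ center G ∧
      vq r (centralizer ({y} : Set G)) < vq r (⊤ : Subgroup G)
  have hex : ∀ r : ℕ, r.Prime → r ∣ Nat.card (G ⧸ R) → ∃ y : G, IsQ r y ∧ y ∉ center G := by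
    intro r hr hd
    haveI := Fact.mk hr
    obtain ⟨z, hz⟩ := exists_prime_orderOf_dvd_card' r hd
    obtain ⟨g, rfl⟩ := hsurj z
    obtain ⟨a, b, -, rfl, ha, hb, -, -⟩ := ThreeCop.parts r g
    refine ⟨a, ha, fun haZ => hb ?_⟩
    rw [map_mul, show π a = 1 from (QuotientGroup.eq_one_iff a).2 (hZR haZ), one_mul] at hz
    exact hz ▸ orderOf_map_dvd _ b
  obtain ⟨q, hq, hqp, hqW, hqbest⟩ : ∃ q : ℕ, q.Prime ∧ q ≠ p ∧ q ∣ Nat.card (G ⧸ R) ∧
      ∀ r, Def r → r = q := by
    by_cases hd : ∃ r, Def r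
    · obtain ⟨r, hr⟩ := hd
      refine ⟨r, hr.1, hr.2.1, hr.2.2.1, fun t ht => ?_⟩
      by_contra htr
      obtain ⟨y, hy, hyZ, hlt⟩ := hr.2.2.2
      obtain ⟨z, hz, hzZ, hlt'⟩ := ht.2.2.2
      haveI := Fact.mk ht.1
      have he := heq ht.1 ht.2.1 hr.1 hr.2.1 hz hzZ hy hyZ
      obtain ⟨b, hb, hbq, hbZ⟩ := exists_in_cidx he (self_mem_cent z) hz hzZ
      exact (hmix hr.1 hr.2.1 hy hyZ).two_deficient hN hr.1 hy hyZ hr.1 ht.1 (Ne.symm htr)
        (self_mem_cent y) hy hyZ hb hbq hbZ hlt (by rw [← vq_eq_of_cidx he]; exact hlt')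
    · push Not at hd
      by_contra hcon
      push Not at hcon
      refine hWns ?_
      haveI := Fact.mk hp
      have : IsPGroup p (G ⧸ R) := by
        obtain ⟨i, j, e⟩ := exists_pow_mul_pow hp hp (n := Nat.card (G ⧸ R)) Nat.card_pos.ne'
          fun r hr hd' => Or.inl (by
            by_contra hrp
            obtain ⟨t, ht, -⟩ := hcon r hr hrp hd'
            exact hd t ht)
        exact IsPGroup.of_card (n := i + j) (by rw [e, pow_add])
      haveI := this.isNilpotent
      infer_instance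
  haveI := Fact.mk hq
  obtain ⟨Q⟩ : Nonempty (Sylow q G) := inferInstance
  set Qb := (Q : Subgroup G).map π with hQb
  have hQp : IsPGroup q Qb := Q.isPGroup'.map π
  have hQindex : ¬ q ∣ Qb.index := fun hd => Q.not_dvd_index (hd.trans (index_map_dvd _ hsurj))
  haveI : Nontrivial Qb := by
    refine (nontrivial_iff_ne_bot Qb).2 fun e => ?_
    rw [e, index_bot] at hQindex
    exact hQindex hqW
  obtain ⟨⟨w, hw⟩, hw1⟩ :=
    Subgroup.ne_bot_iff_exists_ne_one.1 ((nontrivial_iff_ne_bot _).1 hQp.center_nontrivial)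
  obtain ⟨v, hvQ, hv⟩ := w.2
  have hvR : v ∉ R := fun hR' => hw1 (Subtype.ext (Subtype.ext (by
    rw [← hv]; exact (QuotientGroup.eq_one_iff v).2 hR')))
  have hvZ : v ∉ center G := fun hz => hvR (hZR hz)
  have hvq : IsQ q v := isQ_of_mem Q.isPGroup' hvQ
  -- the class of the image has `p`-power size
  have hpow : ∀ r : ℕ, r.Prime → r ∣ (centralizer ({π v} : Set (G ⧸ R))).index → r = p := by
    intro r hr hd
    by_contra hrp
    by_cases hrq : r = q
    · subst hrq
      refine hQindex (hd.trans (index_dvd_of_le fun g hg => mem_cent.2 ?_))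
      have h1 := congrArg Subtype.val (mem_center_iff.1 hw ⟨g, hg⟩)
      show g * π v = π v * g
      rw [hv]
      exact h1
    · haveI := Fact.mk hr
      have hd2 : r ∣ (centralizer ({v} : Set G)).index :=
        (hd.trans (index_dvd_of_le (show (centralizer ({v} : Set G)).map π ≤
          centralizer ({π v} : Set (G ⧸ R)) by
            rintro _ ⟨g, hg, rfl⟩
            exact mem_cent.2 ((mem_cent.1 hg).map π)))).trans (index_map_dvd _ hsurj)
      have hrW : r ∣ Nat.card (G ⧸ R) := hd.trans (index_dvd_card _)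
      obtain ⟨y, hy, hyZ⟩ := hex r hr hrW
      refine hrq (hqbest r ⟨hr, hrp, hrW, y, hy, hyZ, ?_⟩)
      rw [vq_eq_of_cidx (heq hr hrp hq hqp hy hyZ hvq hvZ) r]
      have h1 := ThreeCop.vq_add r v
      have h2 := hr.factorization_pos_of_dvd index_ne_zero_of_finite hd2
      unfold ClassGraph.cidx at h1
      omega
  obtain ⟨i, j, e⟩ := exists_pow_mul_pow hp hp
    (n := (centralizer ({π v} : Set (G ⧸ R))).index) index_ne_zero_of_finite
    fun r hr hd => Or.inl (hpow r hr hd)
  have hsol := PGroup.isSolvable_normalClosure_of_class_prime_pow (π v) hp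
    (k := i + j) (by rw [e, pow_add])
  have h3 := hW _ normalClosure_normal hsol
  exact hvR ((QuotientGroup.eq_one_iff v).1 (mem_bot.1 (h3 ▸ subset_normalClosure rfl)))

include h hG in
theorem nocont_false (hN : NoCont G) (hex₁ : ∃ g : G, cidx g = n₁) (hex₂ : ∃ g : G, cidx g = n₂) :
    False := by
  classical
  -- representatives, with a prime of full multiplicity
  have hrep : ∀ g : G, g ∉ center G → ∃ (q : ℕ) (C : G), q.Prime ∧ IsQ q C ∧ C ∉ center G ∧
      centralizer ({g} : Set G) = centralizer ({C} : Set G) ∧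
      vq q (centralizer ({C} : Set G)) = vq q (⊤ : Subgroup G) := by
    intro g hg
    obtain ⟨p, a, hp, ha, haZ, -, he⟩ := cent_part hN hg
    have hm := no_pure h hG hN hp ha haZ
    obtain ⟨r, y, hy, hr, hrp, hyr, hyZ⟩ := id hm
    have hey := hm.self hN hp ha haZ hy hyZ
    rcases (vq_le_top p (centralizer ({a} : Set G))).lt_or_eq with hlp | hlp
    · rcases (vq_le_top r (centralizer ({a} : Set G))).lt_or_eq with hlr | hlr
      · exact (hm.two_deficient hN hp ha haZ hp hr hrp.symm (self_mem_cent a) ha haZ hy hyr hyZ hlp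
          hlr).elim
      · exact ⟨r, y, hr, hyr, hyZ, he.trans hey.symm, hey.symm ▸ hlr⟩
    · exact ⟨p, a, hp, ha, haZ, he, hlp⟩
  obtain ⟨g₁, hg₁⟩ := hex₁
  obtain ⟨g₂, hg₂⟩ := hex₂
  obtain ⟨q₁, x₁, hq₁, hx₁, hx₁Z, he₁, hf₁⟩ := hrep g₁ (h.not_center (Or.inr hg₁))
  obtain ⟨q₂, x₂, hq₂, hx₂, hx₂Z, he₂, hf₂⟩ := hrep g₂ (h.not_center (Or.inl hg₂))
  have hi₁ : cidx x₁ = n₁ := (congrArg Subgroup.index he₁.symm).trans hg₁
  have hi₂ : cidx x₂ = n₂ := (congrArg Subgroup.index he₂.symm).trans hg₂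
  set C₁ := centralizer ({x₁} : Set G) with hC₁
  set C₂ := centralizer ({x₂} : Set G) with hC₂
  have hm₁ := no_pure h hG hN hq₁ hx₁ hx₁Z
  have hm₂ := no_pure h hG hN hq₂ hx₂ hx₂Z
  -- conjugation of centralisers of one order
  have hconj : ∀ {q : ℕ} {x : G}, q.Prime → IsQ q x → x ∉ center G → Mixed q x →
      vq q (centralizer ({x} : Set G)) = vq q (⊤ : Subgroup G) → ∀ g : G, cidx g = cidx x →
      ∃ c : G, c * g * c⁻¹ ∈ centralizer ({x} : Set G) := by
    intro q x hq hxq hxZ hm hf g hgx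
    haveI := Fact.mk hq
    have hgZ : g ∉ center G := h.not_center (by rcases h.idx hxZ with e | e <;> simp [hgx, e])
    obtain ⟨p, a, hp, ha, haZ, -, he⟩ := cent_part hN hgZ
    obtain ⟨b, hb, hbq, hbZ⟩ := exists_in_cidx hgx.symm (self_mem_cent x) hxq hxZ
    have hb' := (no_pure h hG hN hp ha haZ).self hN hp ha haZ (he ▸ hb) hbZ
    obtain ⟨R, hbR, hR⟩ := ThreeCop.exists_full (ThreeCop.isPGroup_zpowers hbq) (zpowers_le.2 hb)
    obtain ⟨R', hR'⟩ := ThreeCop.exists_full' q (centralizer ({x} : Set G))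
    have hRt : Full q R ⊤ := ⟨le_top, hR.pg, by rw [hR.card, vq_eq_of_cidx hgx, hf]⟩
    obtain ⟨c, -, hc⟩ := hRt.conj (⟨le_top, hR'.pg, by rw [hR'.card, hf]⟩ : Full q R' ⊤)
    refine ⟨c, ?_⟩
    have h1 := hm.self hN hq hxq hxZ (hR'.le (hc b (hbR (mem_zpowers b)))) fun hz => hbZ (by
      simpa [mul_assoc] using (inferInstance : (center G).Normal).conj_mem _ hz c⁻¹)
    rw [← h1, ThreeCop.mem_cent_conj c, hb', ← he]
    exact self_mem_cent g
  have hcover : ∀ g : G, g ∉ center G →
      (∃ c : G, c * g * c⁻¹ ∈ C₁) ∨ (∃ c : G, c * g * c⁻¹ ∈ C₂) := by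
    intro g hg
    rcases h.idx hg with e | e
    · exact Or.inr (hconj hq₂ hx₂ hx₂Z hm₂ hf₂ g (e.trans hi₂.symm))
    · exact Or.inl (hconj hq₁ hx₁ hx₁Z hm₁ hf₁ g (e.trans hi₁.symm))
  -- a self-normalising centraliser forces solvability
  have hselfnorm : ∀ {q : ℕ} {x x' : G}, q.Prime → IsQ q x → x ∉ center G → Mixed q x →
      (∀ g : G, g ∉ center G → cidx g = cidx x ∨ cidx g = cidx x') →
      normalizer ((centralizer ({x} : Set G) : Subgroup G) : Set G) ≤ centralizer ({x} : Set G) →
      False := by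
    intro q x x' hq hxq hxZ hm hidx hnorm
    set C := centralizer ({x} : Set G) with hC
    -- no noncentral element of prime power order in the derived subgroup has a class like `x`
    have hkill : ∀ {r : ℕ}, r.Prime → ∀ z : G, z ∈ commutator G → IsQ r z → z ∉ center G →
        cidx z = cidx x → False := by
      intro r hr z hz hzr hzZ he
      haveI := Fact.mk hr
      obtain ⟨b, hb, hbr, hbZ⟩ := exists_in_cidx he (self_mem_cent z) hzr hzZ
      have hfull : vq r C = vq r (⊤ : Subgroup G) := by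
        refine (vq_le_top r C).antisymm (not_lt.1 fun hlt => ?_)
        obtain ⟨u, -, hu, -, huC⟩ := (hm.good hN hq hxq hxZ hb hbr hbZ hlt).exists_norm
          fun w hw g _ => ThreeCop.commute_center hw g
        exact huC (hnorm hu)
      obtain ⟨R, hbR, hR⟩ := ThreeCop.exists_full (ThreeCop.isPGroup_zpowers hbr) (zpowers_le.2 hb)
      have hRtop : Full r R ⊤ := ⟨le_top, hR.pg, by rw [hR.card, hfull]⟩
      obtain ⟨P, hP⟩ := hR.pg.exists_le_sylow
      have hPR : (P : Subgroup G) = R := hRtop.eq_of_le hP P.isPGroup' le_top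
      have hPC : normalizer ((P : Subgroup G) : Set G) ≤ centralizer ((P : Subgroup G) : Set G) := by
        rw [hPR]
        intro n hn
        have h1 : n * b * n⁻¹ ∈ R := (mem_normalizer_iff.1 hn b).1 (hbR (mem_zpowers b))
        have h2 : n * b * n⁻¹ ∉ center G := ThreeCop.not_center_conj hbZ n
        have h3 := hm.self hN hq hxq hxZ (hR.le h1) h2
        have h4 := hm.self hN hq hxq hxZ hb hbZ
        have hnC : n ∈ C := hnorm (mem_normalizer_of_conj fun w hw => by
          have h5 : n * w * n⁻¹ ∈ centralizer ({n * b * n⁻¹} : Set G) :=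
            (ThreeCop.mem_cent_conj n).2 (by rw [h4]; exact hw)
          rwa [h3] at h5)
        exact mem_centralizer_iff.2 fun w hw => (hm.comm hN hq hxq hxZ (hR.le hw) hnC).eq
      have hker : commutator G ≤ (MonoidHom.transferSylow P hPC).ker := by
        haveI : IsMulCommutative (P : Subgroup G) :=
          ⟨⟨fun a b => Subtype.ext (mem_centralizer_iff.1 (hPC (le_normalizer b.2)) a a.2)⟩⟩
        rw [_root_.commutator_def, commutator_le]
        intro g₁ _ g₂ _
        rw [MonoidHom.mem_ker, map_commutatorElement, commutatorElement_eq_one_iff_mul_comm]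
        exact mul_comm' _ _
      have h6 := (MonoidHom.ker_transferSylow_disjoint P hPC (zpowers z)
        (ThreeCop.isPGroup_zpowers hzr)).le_bot
        (mem_inf.2 ⟨hker hz, mem_zpowers z⟩)
      exact hzZ (by rw [mem_bot.1 h6]; exact one_mem _)
    have hall : ∀ {r : ℕ}, r.Prime → ∀ z : G, z ∈ commutator G → IsQ r z → z ∉ center G →
        cidx z = cidx x' := fun hr z hz hzr hzZ =>
      (hidx z hzZ).resolve_left (hkill hr z hz hzr hzZ)
    have hnsG : ¬ Group.IsSolvable (commutator G) := fun hs => hG (solvable_of_commutator hs)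
    by_cases ha : ∃ (t : ℕ) (a : G), t.Prime ∧ a ∈ commutator G ∧ IsQ t a ∧ a ∉ center G ∧
        vq t (centralizer ({a} : Set G)) = vq t (⊤ : Subgroup G)
    · obtain ⟨t, a, ht, haG, haq, haZ, hfA⟩ := ha
      haveI := Fact.mk ht
      have hma := no_pure h hG hN ht haq haZ
      have hia := hall ht a haG haq haZ
      set A := centralizer ({a} : Set G) with hA
      obtain ⟨P, hP⟩ := (ThreeCop.isPGroup_zpowers haq).of_equiv
        (subgroupOfEquivOfLe (zpowers_le.2 haG)).symm |>.exists_le_sylow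
      set Pm := (P : Subgroup (commutator G)).map (commutator G).subtype with hPm
      have hsup := P.normalizer_sup_eq_top
      have haP : a ∈ Pm := ⟨⟨a, haG⟩, hP (by simp [mem_subgroupOf]), rfl⟩
      have hPA : Pm ≤ A := by
        obtain ⟨R, hle, hR⟩ := ThreeCop.exists_full (P.isPGroup'.map (commutator G).subtype)
          (le_top : Pm ≤ ⊤)
        obtain ⟨R', haR', hR'⟩ := ThreeCop.exists_full (ThreeCop.isPGroup_zpowers haq)
          (zpowers_le.2 (self_mem_cent a) : zpowers a ≤ A)
        obtain ⟨c, -, hc⟩ := hR.conj (⟨le_top, hR'.pg, by rw [hR'.card, hfA]⟩ : Full t R' ⊤)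
        intro w hw
        have h7 := hma.comm hN ht haq haZ (hR'.le (hc w (hle hw))) (hR'.le (hc a (hle haP)))
        exact mem_cent.2 (by simpa [mul_assoc] using ThreeCop.commute_conj h7 c⁻¹)
      have hNP : ∀ n ∈ normalizer (Pm : Set G), n ∈ normalizer (A : Set G) := by
        intro n hn
        refine mem_normalizer_of_conj fun w hw => ?_
        have h5 : n * w * n⁻¹ ∈ centralizer ({n * a * n⁻¹} : Set G) :=
          (ThreeCop.mem_cent_conj n).2 hw
        rwa [hma.self hN ht haq haZ (hPA ((mem_normalizer_iff.1 hn a).1 haP))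
          (ThreeCop.not_center_conj haZ n)] at h5
      have htop : A.subgroupOf (commutator G) = ⊤ := by
        refine PGroup.eq_top_of_forall_conj_mem _ fun g => ?_
        by_cases hgZ : (g : G) ∈ center G
        · exact ⟨1, mem_subgroupOf.2 (by simpa using center_le_centralizer _ hgZ)⟩
        obtain ⟨r, z, hr, hzr, hzZ, hzz, hez⟩ := cent_part hN hgZ
        have hzG : z ∈ commutator G := zpowers_le.2 g.2 hzz
        have hig : cidx (g : G) = cidx a :=
          (congrArg Subgroup.index hez).trans ((hall hr z hzG hzr hzZ).trans hia.symm)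
        obtain ⟨c, hc⟩ := hconj ht haq haZ hma hfA _ hig
        obtain ⟨n, hn, k, hk, hck⟩ := mem_sup_of_normal_right.1
          (show c ∈ normalizer (Pm : Set G) ⊔ commutator G by rw [hsup]; exact mem_top c)
        refine ⟨⟨k, hk⟩⁻¹, mem_subgroupOf.2 ?_⟩
        have h8 := (mem_normalizer_iff.1 (inv_mem (hNP n hn)) _).1 hc
        rw [← hck] at h8
        simpa [mul_assoc] using h8
      refine hnsG ?_
      letI : CommGroup (commutator G) :=
        { (inferInstance : Group (commutator G)) with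
          mul_comm := fun u w => Subtype.ext (hma.comm hN ht haq haZ
            (show (u : G) ∈ A from mem_subgroupOf.1 (htop ▸ mem_top u))
            (show (w : G) ∈ A from mem_subgroupOf.1 (htop ▸ mem_top w))).eq }
      infer_instance
    · push Not at ha
      by_cases hz : ∃ (r : ℕ) (z : G), r.Prime ∧ z ∈ commutator G ∧ IsQ r z ∧ z ∉ center G
      · obtain ⟨r, z, hr, hzG, hzr, hzZ⟩ := hz
        haveI := Fact.mk hr
        refine hnsG (solvable_of_pGroup_mod_center (r := r) (commutator G)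
          fun w hw t ht htr hwt => ?_)
        by_contra hwZ
        haveI := Fact.mk ht
        have he : cidx w = cidx z := (hall ht w hw hwt hwZ).trans (hall hr z hzG hzr hzZ).symm
        obtain ⟨b, hb, hbt, hbZ⟩ := exists_in_cidx he (self_mem_cent w) hwt hwZ
        refine (no_pure h hG hN hr hzr hzZ).two_deficient hN hr hzr hzZ hr ht htr.symm
          (self_mem_cent z) hzr hzZ hb hbt hbZ
          (lt_of_le_of_ne (vq_le_top r _) (ha r z hr hzG hzr hzZ)) ?_
        rw [← vq_eq_of_cidx he]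
        exact lt_of_le_of_ne (vq_le_top t _) (ha t w ht hw hwt hwZ)
      · push Not at hz
        haveI : Fact (Nat.Prime 2) := ⟨Nat.prime_two⟩
        exact hnsG (solvable_of_pGroup_mod_center (r := 2) (commutator G)
          fun w hw t ht _ hwt => hz t w ht hw hwt)
  by_cases hw₁ : normalizer (C₁ : Set G) ≤ C₁
  · exact hselfnorm (x' := x₂) hq₁ hx₁ hx₁Z hm₁
      (fun g hg => (h.idx hg).symm.imp (·.trans hi₁.symm) (·.trans hi₂.symm)) hw₁
  by_cases hw₂ : normalizer (C₂ : Set G) ≤ C₂
  · exact hselfnorm (x' := x₁) hq₂ hx₂ hx₂Z hm₂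
      (fun g hg => (h.idx hg).imp (·.trans hi₂.symm) (·.trans hi₁.symm)) hw₂
  -- counting
  have hbound : ∀ C : Subgroup G, ¬ normalizer (C : Set G) ≤ C →
      2 * ((normalizer (C : Set G)).index * Nat.card C) ≤ Nat.card G := by
    intro C hC
    obtain ⟨d, hd⟩ := card_dvd_of_le (le_normalizer : C ≤ normalizer (C : Set G))
    have hd2 : 2 ≤ d := by
      by_contra hlt
      have hd0 : d ≠ 0 := by rintro rfl; rw [mul_zero] at hd; exact Nat.card_pos.ne' hd
      have hd1 : d = 1 := by omega
      exact hC (eq_of_le_of_card_ge le_normalizer (by rw [hd, hd1, mul_one])).ge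
    rw [← (normalizer (C : Set G)).index_mul_card, hd]
    calc 2 * ((normalizer (C : Set G)).index * Nat.card C) =
        (normalizer (C : Set G)).index * (Nat.card C * 2) := by ring
      _ ≤ _ := Nat.mul_le_mul_left _ (Nat.mul_le_mul_left _ hd2)
  have hb₁ := hbound C₁ hw₁
  have hb₂ := hbound C₂ hw₂
  have hZ₁ : center G ≤ C₁ := center_le_centralizer _
  have hZ₂ : center G ≤ C₂ := center_le_centralizer _
  have hle : Nat.card G - Nat.card (center G) ≤
      (normalizer (C₁ : Set G)).index * (Nat.card C₁ - Nat.card (center G)) +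
      (normalizer (C₂ : Set G)).index * (Nat.card C₂ - Nat.card (center G)) := by
    have h1 : ((center G : Set G)ᶜ).ncard = Nat.card G - Nat.card (center G) := by
      rw [Set.ncard_compl]; rfl
    rw [← h1]
    refine (Set.ncard_le_ncard (t := {g : G | g ∉ center G ∧ ∃ c : G, c * g * c⁻¹ ∈ C₁} ∪
      {g : G | g ∉ center G ∧ ∃ c : G, c * g * c⁻¹ ∈ C₂}) (fun g hg => ?_) (Set.toFinite _)).trans
      ((Set.ncard_union_le _ _).trans (Nat.add_le_add (ncard_conj_le C₁ hZ₁) (ncard_conj_le C₂ hZ₂)))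
    exact (hcover g hg).imp (fun e => ⟨hg, e⟩) (fun e => ⟨hg, e⟩)
  have hp₁ := Nat.pos_of_ne_zero (index_ne_zero_of_finite (H := normalizer (C₁ : Set G)))
  have hp₂ := Nat.pos_of_ne_zero (index_ne_zero_of_finite (H := normalizer (C₂ : Set G)))
  have hc₁ := card_le_of_le hZ₁
  rw [Nat.mul_sub, Nat.mul_sub] at hle
  have hz₁ := Nat.mul_le_mul_left ((normalizer (C₁ : Set G)).index) (card_le_of_le hZ₁)
  have hz₂ := Nat.mul_le_mul_left ((normalizer (C₂ : Set G)).index) (card_le_of_le hZ₂)
  have hy₁ := Nat.le_mul_of_pos_left (Nat.card (center G)) hp₁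
  have hy₂ := Nat.le_mul_of_pos_left (Nat.card (center G)) hp₂
  have hzpos := Nat.card_pos (α := center G)
  omega

/-- A finite group with exactly three class sizes is solvable. -/
theorem isSolvable {G : Type u} [Group G] [Finite G] {n₁ n₂ : ℕ} (h : Hyp G n₁ n₂)
    (hex₁ : ∃ g : G, cidx g = n₁) (hex₂ : ∃ g : G, cidx g = n₂) : Group.IsSolvable G := by
  by_contra hG
  refine nocont_false h hG (fun g x hg hx hle => ?_) hex₁ hex₂
  rcases h.idx hx with hx2 | hx1
  swap
  · exact h.eq_of_le_small hle hx1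
  rcases h.idx hg with hg2 | hg1
  · exact h.eq_of_le_large hle hg2 hx
  obtain ⟨p, a, hp, ha, haZ, -, hxa⟩ := exists_part hx
  exact (no_cont h hG (⟨hp, ha,
    (congrArg Subgroup.index (h.eq_of_le_large hxa hx2 haZ)).symm.trans hx2, g, hg1,
    hle.trans hxa⟩ : Cont n₁ n₂ a p)).elim

end CfsgLib.ThreeSizes
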