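import Cfsg.Agent.Lib.PGroup.ThreeSizes.Setup

/-!
Class sizes `1, n₂, n₁` in a non-solvable group: no centraliser properly contains another.
-/

set_option autoImplicit false
set_option linter.style.haveILetI false
set_option linter.unusedSectionVars false

namespace CfsgLib.ThreeSizes

open Subgroup
open CfsgLib.ThreeCop (IsQ Full vq mem_cent isQ_of_mem mem_normalizer_of_conj self_mem_cent)
open CfsgLib.ClassGraph (cidx)

universe u

variable {G : Type u} [Group G] [Finite G] {n₁ n₂ : ℕ}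

/-- The prime `t` divides the quotient of the class sizes. -/
def Grows (n₁ n₂ t : ℕ) : Prop := n₂.factorization t < n₁.factorization t

/-- `x` is a `p`-element whose centraliser, of the larger order, contains a smaller one. -/
structure Cont (n₁ n₂ : ℕ) (x : G) (p : ℕ) : Prop where
  prime : p.Prime
  isQ : IsQ p x
  idx : cidx x = n₂
  ex : ∃ g : G, cidx g = n₁ ∧ centralizer ({g} : Set G) ≤ centralizer ({x} : Set G)

/-- A nontrivial power outside a subgroup. -/
theorem mem_of_pow_mem {s : ℕ} [hs : Fact s.Prime] {H : Subgroup G} {a b : G} (hab : Commute a b)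
    (ha : IsQ s a) (hb : ¬ s ∣ orderOf b) {k : ℕ} (h : (a * b) ^ s ^ k ∈ H) : b ∈ H := by
  obtain ⟨l, hl⟩ := ha
  have h2 : (a * b) ^ s ^ (k + l) ∈ H := by
    rw [pow_add, pow_mul]; exact pow_mem h _
  rw [hab.mul_pow, pow_add, mul_comm (s ^ k), pow_mul a, hl, one_pow, one_mul] at h2
  obtain ⟨m, hm⟩ := exists_pow_eq_self_of_coprime
    (show (s ^ l * s ^ k).Coprime (orderOf b) by
      rw [← pow_add]; exact Nat.Coprime.pow_left _ (hs.out.coprime_iff_not_dvd.2 hb))
  rw [← hm]
  exact pow_mem h2 m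

variable (h : Hyp G n₁ n₂)

include h in
theorem Hyp.vq_lt_grows {t : ℕ} (ht : Grows n₁ n₂ t) {a b : G} (ha : cidx a = n₁)
    (hb : cidx b = n₂) :
    vq t (centralizer ({a} : Set G)) < vq t (centralizer ({b} : Set G)) := by
  have h1 := ThreeCop.vq_add t a
  have h2 := ThreeCop.vq_add t b
  rw [ha] at h1
  rw [hb] at h2
  unfold Grows at ht
  omega

include h in
theorem Hyp.vq_lt_top {t : ℕ} (ht : Grows n₁ n₂ t) {a : G} (ha : cidx a = n₁) :
    vq t (centralizer ({a} : Set G)) < vq t (⊤ : Subgroup G) := by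
  have h1 := ThreeCop.vq_add t a
  rw [ha] at h1
  unfold Grows at ht
  omega

include h in
theorem Cont.dvd {x : G} {p : ℕ} (c : Cont n₁ n₂ x p) : n₂ ∣ n₁ := by
  obtain ⟨g, hg, hle⟩ := c.ex
  exact hg ▸ c.idx ▸ index_dvd_of_le hle

include h in
theorem Cont.exists_grows {x : G} {p : ℕ} (c : Cont n₁ n₂ x p) :
    ∃ t : ℕ, t.Prime ∧ Grows n₁ n₂ t := by
  obtain ⟨r, hr⟩ := c.dvd h
  have h1 := h.one_lt
  have h2 := h.lt
  have hr1 : r ≠ 1 := by rintro rfl; omega
  have hr0 : r ≠ 0 := by rintro rfl; omega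
  refine ⟨r.minFac, Nat.minFac_prime hr1, ?_⟩
  rw [Grows, hr, Nat.factorization_mul (by omega) hr0, Finsupp.add_apply]
  have := (Nat.minFac_prime hr1).factorization_pos_of_dvd hr0 r.minFac_dvd
  omega

include h in
theorem Cont.vq_eq {x : G} {p : ℕ} (c : Cont n₁ n₂ x p) {s : ℕ} (hs : ¬ Grows n₁ n₂ s) {a b : G}
    (ha : a ∉ center G) (hb : b ∉ center G) :
    vq s (centralizer ({a} : Set G)) = vq s (centralizer ({b} : Set G)) := by
  have h1 := ThreeCop.vq_add s a
  have h2 := ThreeCop.vq_add s b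
  have hn₂ : n₂ ≠ 0 := by have := h.one_lt; omega
  have hn₁ : n₁ ≠ 0 := by have := h.one_lt; have := h.lt; omega
  have h3 := ((Nat.factorization_le_iff_dvd hn₂ hn₁).2 (c.dvd h)) s
  unfold Grows at hs
  rcases h.idx ha with e | e <;> rw [e] at h1 <;> rcases h.idx hb with e' | e' <;> rw [e'] at h2 <;>
    omega

include h in
theorem Cont.vq_le {x : G} {p : ℕ} (c : Cont n₁ n₂ x p) {s : ℕ} {a b : G}
    (ha : cidx a = n₁) (hb : b ∉ center G) :
    vq s (centralizer ({a} : Set G)) ≤ vq s (centralizer ({b} : Set G)) := by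
  have h1 := ThreeCop.vq_add s a
  have h2 := ThreeCop.vq_add s b
  have hn₂ : n₂ ≠ 0 := by have := h.one_lt; omega
  have hn₁ : n₁ ≠ 0 := by have := h.one_lt; have := h.lt; omega
  have h3 := ((Nat.factorization_le_iff_dvd hn₂ hn₁).2 (c.dvd h)) s
  rw [ha] at h1
  rcases h.idx hb with e | e <;> rw [e] at h2 <;> omega

section

variable {x : G} {p : ℕ} (c : Cont n₁ n₂ x p)

include h c in
theorem Cont.not_center : x ∉ center G := h.not_center (Or.inl c.idx)

include h c in
/-- A `t`-element of `C(x)` that is not central in it. -/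
theorem Cont.exists_noncentral {t : ℕ} [Fact t.Prime] (ht : Grows n₁ n₂ t) :
    ∃ z ∈ centralizer ({x} : Set G), IsQ t z ∧ z ∉ zc (centralizer ({x} : Set G)) := by
  by_contra hcon
  push Not at hcon
  obtain ⟨g, hg, hle⟩ := c.ex
  obtain ⟨R, hR⟩ := ThreeCop.exists_full' t (centralizer ({x} : Set G))
  have hRg : R ≤ centralizer ({g} : Set G) := fun r hr =>
    mem_cent.2 ((mem_zc.1 (hcon r (hR.le hr) (isQ_of_mem hR.pg hr))).2 g
      (hle (self_mem_cent g))).symm
  have h1 := ThreeCop.card_le_of_pGroup hR.pg hRg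
  rw [hR.card] at h1
  have h2 := (Nat.pow_le_pow_iff_right (Fact.out : t.Prime).one_lt).1 h1
  exact absurd (h.vq_lt_grows ht hg c.idx) (not_lt.2 h2)

include h c in
theorem Cont.small {r : ℕ} (hr : r.Prime) (hrp : r ≠ p) {b : G}
    (hb : b ∈ centralizer ({x} : Set G)) (hbq : IsQ r b)
    (hbz : b ∉ zc (centralizer ({x} : Set G))) :
    cidx (x * b) = n₁ ∧
      centralizer ({x * b} : Set G) = centralizer ({x} : Set G) ⊓ centralizer ({b} : Set G) :=
  have hco := coprime_of_isQ c.prime hr hrp.symm c.isQ hbq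
  ⟨h.mul_small c.idx hb hco hbz, cent_mul (mem_cent.1 hb).symm hco⟩

include h c in
theorem Cont.exists_in_small {t : ℕ} [Fact t.Prime] (ht : Grows n₁ n₂ t) (htp : t ≠ p) {g : G}
    (hg : g ∉ center G) :
    ∃ a ∈ centralizer ({g} : Set G), IsQ t a ∧ a ∉ zc (centralizer ({x} : Set G)) := by
  obtain ⟨z, hz, hzq, hzz⟩ := c.exists_noncentral h ht
  obtain ⟨he, hC⟩ := c.small h (Fact.out : t.Prime) htp hz hzq hzz
  refine exists_elem (B' := centralizer ({x * z} : Set G)) (c.vq_le h he hg) (fun w hw _ => ?_)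
    (y := z) (by rw [hC]; exact mem_inf.2 ⟨hz, self_mem_cent z⟩) hzq hzz
    fun w hw _ => (mem_zc.1 hw).2 z hz
  rw [hC]
  exact mem_inf.2 ⟨(mem_zc.1 hw).1, mem_cent.2 ((mem_zc.1 hw).2 z hz).symm⟩

include h c in
/-- At most one prime other than `p` divides the quotient of the class sizes. -/
theorem Cont.step1 {t q : ℕ} (ht : t.Prime) (hq : q.Prime) (htq : t ≠ q) (htp : t ≠ p)
    (hqp : q ≠ p) (hgt : Grows n₁ n₂ t) (hgq : Grows n₁ n₂ q) : False := by
  haveI := Fact.mk ht
  haveI := Fact.mk hq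
  obtain ⟨z, hz, hzq, hzz⟩ := c.exists_noncentral h hgt
  obtain ⟨hB, hBC⟩ := c.small h ht htp hz hzq hzz
  set B := centralizer ({x * z} : Set G) with hBdef
  set C := centralizer ({x} : Set G) with hC
  have hxz : Commute x z := (mem_cent.1 hz).symm
  have hBle : B ≤ C := hBC.trans_le inf_le_left
  have hBnc : x * z ∉ center G := h.not_center (Or.inr hB)
  -- a `q`-element of `B` outside `zc C`
  obtain ⟨y, hy, hyq, hyz⟩ := c.exists_in_small h hgq hqp hBnc
  have hcq : ∀ a ∈ B, IsQ q a → B ≤ centralizer ({a} : Set G) := fun a ha haq =>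
    h.min_central hB ha (coprime_mul_of_coprime hxz (coprime_of_isQ hq c.prime hqp haq c.isQ)
      (coprime_of_isQ hq ht htq.symm haq hzq))
  have hself : ∀ {r : ℕ}, r.Prime → r ≠ p → ∀ a ∈ B, IsQ r a → a ∉ zc C →
      B ≤ centralizer ({a} : Set G) → C ⊓ centralizer ({a} : Set G) = B := by
    intro r hr hrp a ha haq haz hBa
    obtain ⟨he, hCa⟩ := c.small h hr hrp (hBle ha) haq haz
    rw [← hCa]
    exact (h.eq_of_le_small (hCa ▸ le_inf hBle hBa) he).symm
  have hBy : centralizer ({x * y} : Set G) = B := by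
    rw [(c.small h hq hqp (hBle hy) hyq hyz).2]
    exact hself hq hqp y hy hyq hyz (hcq y hy hyq)
  have hct : ∀ a ∈ B, IsQ t a → B ≤ centralizer ({a} : Set G) := fun a ha haq => by
    rw [← hBy]
    refine h.min_central (c.small h hq hqp (hBle hy) hyq hyz).1 (by rw [hBy]; exact ha) ?_
    exact coprime_mul_of_coprime (mem_cent.1 (hBle hy)).symm
      (coprime_of_isQ ht c.prime htp haq c.isQ) (coprime_of_isQ ht hq htq haq hyq)
  have hZ : ∀ w ∈ zc C, ∀ g ∈ C, Commute g w := fun w hw => (mem_zc.1 hw).2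
  refine pair_false (D := C) (B := B) (Z₀ := zc C) (t := t) (q := q) htq hZ
    ⟨fun a ha haq b hb => (mem_cent.1 (hct a ha haq hb)).symm, ?_,
      fun a ha haq haz => hself ht htp a ha haq haz (hct a ha haq), h.vq_lt_grows hgt hB c.idx⟩
    ⟨fun a ha haq b hb => (mem_cent.1 (hcq a ha haq hb)).symm, ⟨y, hy, hyq, hyz⟩,
      fun a ha haq haz => hself hq hqp a ha haq haz (hcq a ha haq), h.vq_lt_grows hgq hB c.idx⟩
  exact ⟨z, mem_cent.2 (hxz.symm.mul_right (Commute.refl z)), hzq, hzz⟩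

include h c in
theorem Cont.exists_in_cent {t : ℕ} [Fact t.Prime] (ht : Grows n₁ n₂ t) {g : G}
    (hg : g ∉ center G) : ∃ a ∈ centralizer ({g} : Set G), IsQ t a ∧ a ∉ center G := by
  have hX : ∀ (g' : G), ∀ w ∈ center G, IsQ t w → w ∈ centralizer ({g'} : Set G) :=
    fun g' w hw _ => center_le_centralizer _ hw
  by_cases htp : t = p
  · subst htp
    obtain ⟨g', hg', hle⟩ := c.ex
    exact exists_elem (c.vq_le h hg' hg) (hX g') (y := x)
      (mem_cent.2 (mem_cent.1 (hle (self_mem_cent g'))).symm) c.isQ (c.not_center h)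
      fun w hw _ => ThreeCop.commute_center hw x
  · obtain ⟨a, ha, haq, haz⟩ := c.exists_in_small h ht htp hg
    exact ⟨a, ha, haq, fun hc => haz (center_le_zc x hc)⟩

include h c in
theorem Cont.exists_in_cent' {s : ℕ} [Fact s.Prime] (hs : ¬ Grows n₁ n₂ s) {y : G}
    (hyq : IsQ s y) (hyZ : y ∉ center G) {g : G} (hg : g ∉ center G) :
    ∃ a ∈ centralizer ({g} : Set G), IsQ s a ∧ a ∉ center G :=
  exists_elem (B' := centralizer ({y} : Set G)) (c.vq_eq h hs hyZ hg).le
    (fun _ hw _ => center_le_centralizer _ hw) (self_mem_cent y) hyq hyZ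
    fun w hw _ => ThreeCop.commute_center hw y

include h c in
theorem Cont.vq_lt_top' {s : ℕ} [Fact s.Prime] (hs : ¬ Grows n₁ n₂ s) {y : G} (hyq : IsQ s y)
    (hyZ : y ∉ center G) {g : G} (hg : g ∉ center G) :
    vq s (centralizer ({g} : Set G)) < vq s (⊤ : Subgroup G) := by
  obtain ⟨g', hg'⟩ := exists_dvd_cidx hyq hyZ
  have hg'Z : g' ∉ center G := fun hc => by
    rw [ClassGraph.cidx_of_mem_center hc] at hg'
    exact (Fact.out : s.Prime).not_dvd_one hg'
  have h1 := ThreeCop.vq_add s g'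
  have h2 := (Fact.out : s.Prime).factorization_pos_of_dvd index_ne_zero_of_finite hg'
  rw [c.vq_eq h hs hg hg'Z]
  unfold ClassGraph.cidx at h1
  omega

include h c in
/-- The structure of the centraliser of an `s`-element, `s` not dividing the quotient. -/
theorem Cont.part {s : ℕ} [Fact s.Prime] (hs : ¬ Grows n₁ n₂ s) {v : G} (hvq : IsQ s v)
    (hvZ : v ∉ center G) :
    ∃ T, Full s T (centralizer ({v} : Set G)) ∧
      (∀ a ∈ centralizer ({v} : Set G), IsQ s a → a ∈ T) ∧
      (∀ b ∈ centralizer ({v} : Set G), ¬ s ∣ orderOf b → ∀ a ∈ T, Commute a b) := by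
  refine normal_part _ fun b hb hbs => ?_
  rw [← cent_mul (mem_cent.1 hb).symm (hvq.coprime hbs)]
  exact c.vq_eq h hs (mul_not_center (mem_cent.1 hb).symm (hvq.coprime hbs) hvZ) hvZ

include h c in
theorem Cont.key {s t : ℕ} (hs : s.Prime) (ht : t.Prime) (hst : s ≠ t) (hgs : ¬ Grows n₁ n₂ s)
    (hgt : ¬ Grows n₁ n₂ t) {v a : G} (hvq : IsQ s v) (haq : IsQ t a) (hv : v ∉ center G)
    (ha : a ∉ center G) (hc : Commute v a) :
    centralizer ({a} : Set G) ≤ centralizer ({v} : Set G) := by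
  haveI := Fact.mk hs
  have hco := coprime_of_isQ hs ht hst hvq haq
  have hva : centralizer ({v * a} : Set G) =
      centralizer ({v} : Set G) ⊓ centralizer ({a} : Set G) := cent_mul hc hco
  have hvanc : v * a ∉ center G := mul_not_center hc hco hv
  set D := centralizer ({a} : Set G) with hD
  set B := centralizer ({v * a} : Set G) with hB
  have hBD : B ≤ D := hva.trans_le inf_le_right
  have hBv : B ≤ centralizer ({v} : Set G) := hva.trans_le inf_le_left
  by_contra hcon
  have hne : B ≠ D := fun e => hcon (e ▸ hBv)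
  have hb1 : cidx (v * a) = n₁ := by
    refine (h.idx hvanc).resolve_left fun e => hne ?_
    exact h.eq_of_le_large hBD e ha
  have ha2 : cidx a = n₂ := (h.idx ha).resolve_right fun e => hne (h.eq_of_le_small hBD e)
  have c' : Cont n₁ n₂ a t := ⟨ht, haq, ha2, v * a, hb1, hBD⟩
  obtain ⟨q, hq, hgq⟩ := c.exists_grows h
  haveI := Fact.mk hq
  have hqs : q ≠ s := fun e => hgs (e ▸ hgq)
  have huniq : ∀ r : ℕ, r.Prime → r ≠ q → vq r B = vq r D := by
    intro r hr hrq
    have hng : ¬ Grows n₁ n₂ r := fun hgr => c'.step1 h hr hq hrq (fun e => hgt (e ▸ hgr))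
      (fun e => hgt (e ▸ hgq)) hgr hgq
    exact c.vq_eq h hng hvanc ha
  obtain ⟨T, hT, hTmem, hTcomm⟩ := c.part h hgs hvq hv
  have has : ¬ s ∣ orderOf a := haq.not_dvd_of_ne (hq := Fact.mk ht) hs hst
  have hTB : ∀ r ∈ T, r ∈ B := fun r hr => by
    rw [hva]
    exact mem_inf.2 ⟨hT.le hr, mem_cent.2 (hTcomm a (mem_cent.2 hc.symm) has r hr)⟩
  have hTD : Full s T D := ⟨fun r hr => hBD (hTB r hr), hT.pg, by
    rw [hT.card, c.vq_eq h hgs hv ha]⟩
  have hTn : ∀ b ∈ B, ∀ r ∈ T, b * r * b⁻¹ ∈ T := fun b hb r hr =>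
    hTmem _ (mul_mem (mul_mem (hBv hb) (hT.le hr)) (inv_mem (hBv hb)))
      ((isQ_of_mem hT.pg hr).conj b)
  obtain ⟨Q, hQ⟩ := ThreeCop.exists_full' q D
  -- `D = Q B`
  have hdec : ∀ d ∈ D, ∃ k ∈ Q, ∃ b ∈ B, d = k * b := by
    intro d hd
    have hcop : (Q.subgroupOf D).index.Coprime (B.subgroupOf D).index := by
      refine Nat.coprime_of_dvd fun r hr h1 h2 => ?_
      have e1 := (Q.subgroupOf D).card_mul_index
      rw [Nat.card_congr (subgroupOfEquivOfLe hQ.le).toEquiv, hQ.card] at e1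
      have e2 := (B.subgroupOf D).card_mul_index
      rw [Nat.card_congr (subgroupOfEquivOfLe hBD).toEquiv] at e2
      haveI := Fact.mk hr
      have f1 := hr.factorization_pos_of_dvd index_ne_zero_of_finite h1
      have f2 := hr.factorization_pos_of_dvd index_ne_zero_of_finite h2
      by_cases hrq : r = q
      · subst hrq
        have := congrArg (fun n : ℕ => n.factorization r) e1
        simp only [Nat.factorization_mul (pow_ne_zero _ hr.ne_zero) index_ne_zero_of_finite,
          Finsupp.add_apply, hr.factorization_pow, Finsupp.single_eq_same] at this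
        unfold vq at this
        omega
      · have := congrArg (fun n : ℕ => n.factorization r) e2
        simp only [Nat.factorization_mul Nat.card_pos.ne' index_ne_zero_of_finite,
          Finsupp.add_apply] at this
        have h3 := huniq r hr hrq
        unfold vq at h3
        omega
    obtain ⟨k, hk, b, hb, e⟩ := exists_mul hcop ⟨d, hd⟩
    exact ⟨k, hk, b, hb, congrArg Subtype.val e⟩
  -- the `q`-elements of `D` centralise `T`
  have hQT : ∀ k ∈ Q, ∀ r ∈ T, Commute k r := by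
    have htop : (centralizer (T : Set G)).subgroupOf Q = ⊤ := by
      refine PGroup.eq_top_of_forall_conj_mem _ fun k => ?_
      have hkq : IsQ q (k : G) := isQ_of_mem hQ.pg k.2
      have hkco := coprime_of_isQ ht hq (fun e => hgt (by rw [e]; exact hgq)) haq hkq
      have hak : Commute a (k : G) := (mem_cent.1 (hQ.le k.2)).symm
      obtain ⟨R₁, hR₁⟩ := ThreeCop.exists_full' s (centralizer ({a * (k : G)} : Set G))
      have hR₁D : Full s R₁ D :=
        ⟨hR₁.le.trans ((cent_mul hak hkco).trans_le inf_le_left), hR₁.pg, by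
          rw [hR₁.card, c.vq_eq h hgs (mul_not_center hak hkco ha) ha]⟩
      obtain ⟨d, hd, hd'⟩ := hTD.conj hR₁D
      obtain ⟨j, hj, b, hb, rfl⟩ := hdec d hd
      refine ⟨⟨j, hj⟩, mem_subgroupOf.2 (mem_centralizer_iff.2 fun r hr => ?_)⟩
      have h1 := hd' _ (hTn b⁻¹ (inv_mem hb) r hr)
      rw [show j * b * (b⁻¹ * r * b⁻¹⁻¹) * (j * b)⁻¹ = j * r * j⁻¹ by group] at h1
      have h2 := mem_cent.1 ((cent_mul hak hkco).trans_le inf_le_right (hR₁.le h1))
      have h3 := ThreeCop.commute_conj h2 j⁻¹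
      simp only [inv_inv] at h3
      rw [show j⁻¹ * (j * r * j⁻¹) * j = r by group] at h3
      simpa using h3.eq
    intro k hk r hr
    exact ((mem_centralizer_iff.1 (show k ∈ centralizer (T : Set G) from mem_subgroupOf.1
      (htop ▸ mem_top (⟨k, hk⟩ : Q) : (⟨k, hk⟩ : Q) ∈ (centralizer (T : Set G)).subgroupOf Q))) r hr).symm
  refine hcon fun d hd => ?_
  obtain ⟨k, hk, b, hb, rfl⟩ := hdec d hd
  exact mul_mem (mem_cent.2 (hQT k hk v (hTmem v (self_mem_cent v) hvq))) (hBv hb)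

include h c in
theorem Cont.two_out {s t : ℕ} [hs : Fact s.Prime] [ht : Fact t.Prime] (hst : s ≠ t)
    (hgs : ¬ Grows n₁ n₂ s) (hgt : ¬ Grows n₁ n₂ t) {v w : G} (hvq : IsQ s v) (hvZ : v ∉ center G)
    (hwq : IsQ t w) (hwZ : w ∉ center G) : False := by
  obtain ⟨a, ha, haq, haZ⟩ := c.exists_in_cent' h hgt hwq hwZ hvZ
  set B := centralizer ({v} : Set G) with hB
  have heq : ∀ {v' a' : G}, IsQ s v' → v' ∉ center G → IsQ t a' → a' ∉ center G → Commute v' a' →
      centralizer ({v'} : Set G) = centralizer ({a'} : Set G) := fun hv' hv'Z ha' ha'Z hc =>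
    le_antisymm (c.key h ht.out hs.out hst.symm hgt hgs ha' hv' ha'Z hv'Z hc.symm)
      (c.key h hs.out ht.out hst hgs hgt hv' ha' hv'Z ha'Z hc)
  have hBa : B = centralizer ({a} : Set G) := heq hvq hvZ haq haZ (mem_cent.1 ha).symm
  have hBs : ∀ z ∈ B, IsQ s z → z ∉ center G → centralizer ({z} : Set G) = B := fun z hz hzq hzZ => by
    rw [hBa] at hz ⊢
    exact heq hzq hzZ haq haZ (mem_cent.1 hz)
  have hBt : ∀ z ∈ B, IsQ t z → z ∉ center G → centralizer ({z} : Set G) = B := fun z hz hzq hzZ =>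
    (heq hvq hvZ hzq hzZ (mem_cent.1 hz).symm).symm
  have hcen : ∀ {r : ℕ}, (∀ z ∈ B, IsQ r z → z ∉ center G → centralizer ({z} : Set G) = B) →
      ∀ z ∈ B, IsQ r z → ∀ b ∈ B, Commute z b := fun hr z hz hzq b hb => by
    by_cases hzZ : z ∈ center G
    · exact (ThreeCop.commute_center hzZ b).symm
    · rw [← hr z hz hzq hzZ] at hb
      exact (mem_cent.1 hb).symm
  exact pair_false (D := ⊤) (B := B) (Z₀ := center G) (t := s) (q := t) hst
    (fun z hz g _ => ThreeCop.commute_center hz g)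
    ⟨hcen hBs, ⟨v, self_mem_cent v, hvq, hvZ⟩,
      fun z hz hzq hzZ => by rw [top_inf_eq, hBs z hz hzq hzZ], c.vq_lt_top' h hgs hvq hvZ hvZ⟩
    ⟨hcen hBt, ⟨a, ha, haq, haZ⟩,
      fun z hz hzq hzZ => by rw [top_inf_eq, hBt z hz hzq hzZ], c.vq_lt_top' h hgt hwq hwZ hvZ⟩

end

end CfsgLib.ThreeSizes
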