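import Cfsg.Agent.Lib.PGroup.ThreeSizesCoprime.Tools
import Cfsg.Agent.Lib.Coprime.Hall
import Cfsg.Agent.Lib.FT.NoMinSimple

/-!
An operator group on two abelian groups of coprime orders that has no fixed points outside a
centralised subgroup cannot have orders divisible by both primes.

`N` is a subgroup, `B` a subgroup it normalises, `A` an abelian subgroup normalised by `N` and
centralised by `B`.  A layer is a nontrivial normal `r`-subgroup of `N/B`.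
-/

set_option autoImplicit false
set_option linter.style.haveILetI false
set_option linter.unusedSectionVars false

namespace CfsgLib.ThreeSizes

open Subgroup
open CfsgLib.ThreeCop (IsQ Full vq mem_cent isQ_of_mem mem_normalizer_of_conj)

universe u

variable {G : Type u} [Group G] [Finite G]

/-- `R/B` is a nontrivial normal `r`-subgroup of `N/B`. -/
structure Layer (N B R : Subgroup G) (r : ℕ) : Prop where
  prime : r.Prime
  leB : B ≤ R
  leN : R ≤ N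
  normal : ∀ g ∈ N, ∀ x ∈ R, g * x * g⁻¹ ∈ R
  ne : ∃ x ∈ R, x ∉ B
  pow : ∀ x ∈ R, ∃ k : ℕ, x ^ r ^ k ∈ B

/-- The norm over a layer confines a complement that a `t`-element must fix a point of. -/
theorem endgame {N B R A Z₀ : Subgroup G} {r t : ℕ} [ht : Fact t.Prime] (hrt : r ≠ t)
    (hR : Layer N B R r) (hBn : ∀ g ∈ N, ∀ x ∈ B, g * x * g⁻¹ ∈ B) (hA : ∀ a ∈ A, IsQ t a)
    (hAc : ∀ a ∈ A, ∀ b ∈ A, Commute a b) (hAn : ∀ g ∈ N, ∀ a ∈ A, g * a * g⁻¹ ∈ A)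
    (hBA : ∀ b ∈ B, ∀ a ∈ A, Commute b a) (hZ : ∀ z ∈ Z₀, ∀ x ∈ N, Commute x z)
    (hne : ∃ a ∈ A, a ∉ Z₀)
    (hfix : ∀ a ∈ A, ∀ x ∈ R, x ∉ B → Commute x a → a ∈ Z₀)
    {u : G} (huN : u ∈ N) (hu : IsQ t u) (hufix : ∀ a ∈ A, Commute u a → a ∈ Z₀) : False := by
  classical
  set K : Subgroup R := B.subgroupOf R with hK
  haveI : K.Normal := ⟨fun x hx y => hBn y (hR.leN y.2) x hx⟩
  letI : Fintype (R ⧸ K) := Fintype.ofFinite _
  letI : CommGroup A :=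
    { (inferInstance : Group A) with mul_comm := fun a b => Subtype.ext (hAc a a.2 b b.2) }
  -- the action of a coset
  have hwd : ∀ x ∈ R, ∀ y ∈ R, x⁻¹ * y ∈ B → ∀ a ∈ A, x * a * x⁻¹ = y * a * y⁻¹ := by
    intro x hx y hy hxy a ha
    have e := (hBA _ hxy a ha).eq
    calc x * a * x⁻¹ = x * (a * (x⁻¹ * y)) * y⁻¹ := by group
      _ = x * (x⁻¹ * y * a) * y⁻¹ := by rw [e]
      _ = y * a * y⁻¹ := by group
  let φ : R ⧸ K → (A →* A) := fun q =>
    { toFun := fun a => ⟨(q.out : G) * a * (q.out : G)⁻¹, hAn _ (hR.leN q.out.2) a a.2⟩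
      map_one' := Subtype.ext (show (q.out : G) * 1 * (q.out : G)⁻¹ = 1 by group)
      map_mul' := fun a b => Subtype.ext (show (q.out : G) * ((a : G) * b) * (q.out : G)⁻¹ =
        ((q.out : G) * a * (q.out : G)⁻¹) * ((q.out : G) * b * (q.out : G)⁻¹) by group) }
  let μ : A →* A := ∏ q : R ⧸ K, φ q
  have hφ : ∀ (q : R ⧸ K) (x : R), (x : R ⧸ K) = q → ∀ a : A,
      ((φ q a : A) : G) = (x : G) * a * (x : G)⁻¹ := by
    intro q x hx a
    have h1 : (q.out : R ⧸ K) = (x : R ⧸ K) := by rw [QuotientGroup.out_eq', hx]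
    have h2 : (q.out)⁻¹ * x ∈ K := QuotientGroup.eq.1 h1
    exact hwd _ q.out.2 _ x.2 (by simpa [K, mem_subgroupOf] using h2) a a.2
  have hμ : ∀ a : A, μ a = ∏ q : R ⧸ K, φ q a := fun a => MonoidHom.finset_prod_apply _ _ _
  -- equivariance
  have hequiv : ∀ g, ∀ hg : g ∈ N, ∀ a : A,
      ((μ ⟨g * a * g⁻¹, hAn g hg a a.2⟩ : A) : G) = g * (μ a : G) * g⁻¹ := by
    intro g hg a
    let c : A →* A :=
      { toFun := fun b => ⟨g * b * g⁻¹, hAn g hg b b.2⟩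
        map_one' := Subtype.ext (show g * 1 * g⁻¹ = 1 by group)
        map_mul' := fun b d => Subtype.ext (show g * ((b : G) * d) * g⁻¹ =
          (g * b * g⁻¹) * (g * d * g⁻¹) by group) }
    have hgi : g⁻¹ ∈ N := inv_mem hg
    let σ : R ⧸ K → R ⧸ K := fun q =>
      ((⟨g⁻¹ * q.out * g, by simpa using hR.normal g⁻¹ hgi _ q.out.2⟩ : R) : R ⧸ K)
    have hσ : Function.Bijective σ := by
      refine Finite.injective_iff_bijective.1 fun q q' hqq => ?_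
      have h1 := QuotientGroup.eq.1 hqq
      have h2 := hBn g hg _ (mem_subgroupOf.1 h1)
      rw [← QuotientGroup.out_eq' q, ← QuotientGroup.out_eq' q']
      refine QuotientGroup.eq.2 (mem_subgroupOf.2 ?_)
      convert h2 using 1
      push_cast
      group
    have hterm : ∀ q, φ q (c a) = c (φ (σ q) a) := by
      intro q
      refine Subtype.ext ?_
      show (q.out : G) * (g * a * g⁻¹) * (q.out : G)⁻¹ = g * (φ (σ q) a : G) * g⁻¹
      rw [hφ (σ q) ⟨g⁻¹ * q.out * g, by simpa using hR.normal g⁻¹ hgi _ q.out.2⟩ rfl a]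
      group
    have h3 : μ (c a) = c (μ a) := by
      rw [hμ, hμ, map_prod, Finset.prod_congr rfl fun q _ => hterm q]
      exact hσ.prod_comp fun q => c (φ q a)
    exact congrArg Subtype.val h3
  -- values of the norm are centralised by the layer
  have hval : ∀ a : A, ∀ x, ∀ hx : x ∈ R, x * (μ a : G) * x⁻¹ = μ a := by
    intro a x hx
    let c : A →* A :=
      { toFun := fun b => ⟨x * b * x⁻¹, hAn x (hR.leN hx) b b.2⟩
        map_one' := Subtype.ext (show x * 1 * x⁻¹ = 1 by group)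
        map_mul' := fun b d => Subtype.ext (show x * ((b : G) * d) * x⁻¹ =
          (x * b * x⁻¹) * (x * d * x⁻¹) by group) }
    let σ : R ⧸ K → R ⧸ K := fun q => (⟨x, hx⟩ : R) * q
    have hterm : ∀ q, c (φ q a) = φ (σ q) a := by
      intro q
      refine Subtype.ext ?_
      show x * ((q.out : G) * a * (q.out : G)⁻¹) * x⁻¹ = (φ (σ q) a : G)
      rw [hφ (σ q) (⟨x, hx⟩ * q.out) (by
        rw [QuotientGroup.mk_mul, QuotientGroup.out_eq'])]
      push_cast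
      group
    have h3 : c (μ a) = μ a := by
      rw [hμ, map_prod, Finset.prod_congr rfl fun q _ => hterm q]
      exact (Group.mulLeft_bijective _).prod_comp fun q => φ q a
    exact congrArg Subtype.val h3
  obtain ⟨x₀, hx₀R, hx₀B⟩ := hR.ne
  have hin : ∀ a : A, (μ a : G) ∈ Z₀ := fun a => hfix _ (μ a).2 x₀ hx₀R hx₀B
    (mul_inv_eq_iff_eq_mul.1 (hval a x₀ hx₀R))
  -- the index of the layer is prime to `t`
  have hn : ¬ t ∣ Fintype.card (R ⧸ K) := by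
    haveI := Fact.mk hR.prime
    have hp : IsPGroup r (R ⧸ K) := by
      intro q
      obtain ⟨k, hk⟩ := hR.pow _ q.out.2
      refine ⟨k, ?_⟩
      rw [← QuotientGroup.out_eq' q, ← QuotientGroup.mk_pow, QuotientGroup.eq_one_iff]
      exact mem_subgroupOf.2 (by simpa using hk)
    obtain ⟨j, hj⟩ := IsPGroup.iff_card.1 hp
    rw [← Nat.card_eq_fintype_card, hj]
    exact fun h => hrt ((Nat.prime_dvd_prime_iff_eq ht.out hR.prime).1 (ht.out.dvd_of_dvd_pow h)).symm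
  have hker : ∀ a : A, (a : G) ∈ Z₀ → μ a = 1 → a = 1 := by
    intro a ha h1
    have h2 : μ a = a ^ Fintype.card (R ⧸ K) := by
      rw [hμ]
      refine (Finset.prod_eq_pow_card fun q _ => Subtype.ext ?_).trans (by rw [Finset.card_univ])
      show (q.out : G) * a * (q.out : G)⁻¹ = a
      rw [(hZ _ ha _ (hR.leN q.out.2)).eq, mul_inv_cancel_right]
    rw [h1] at h2
    exact Subtype.ext ((hA a a.2).eq_one_of_pow (congrArg Subtype.val h2.symm) hn)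
  set M : Subgroup G := μ.ker.map A.subtype with hM
  have hMA : M ≤ A := map_subtype_le _
  have hMp : IsPGroup t M := fun m => by
    obtain ⟨k, hk⟩ := hA m (hMA m.2)
    exact ⟨k, Subtype.ext hk⟩
  have hM1 : M ≠ ⊥ := by
    intro h
    rw [hM, map_eq_bot_iff_of_injective _ A.subtype_injective, MonoidHom.ker_eq_bot_iff] at h
    obtain ⟨a, ha, haZ⟩ := hne
    obtain ⟨b, hb⟩ := (Finite.injective_iff_surjective.1 h) ⟨a, ha⟩
    exact haZ (by simpa [hb] using hin b)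
  have hMn : ∀ m ∈ M, u * m * u⁻¹ ∈ M := by
    rintro _ ⟨a, ha, rfl⟩
    refine ⟨⟨u * a * u⁻¹, hAn u huN a a.2⟩, MonoidHom.mem_ker.2 (Subtype.ext ?_), rfl⟩
    rw [hequiv u huN a, show μ a = 1 from ha]
    simp
  have h4 := ThreeCop.card_modEq_fixed hu hMn
  obtain ⟨j, hj0, hj⟩ := (hMp.nontrivial_iff_card).1 ((nontrivial_iff_ne_bot M).2 hM1)
  have h5 : t ∣ Nat.card ↥(M ⊓ centralizer ({u} : Set G)) :=
    Nat.modEq_zero_iff_dvd.1 (h4.symm.trans (Nat.modEq_zero_iff_dvd.2 (hj ▸ dvd_pow_self t hj0.ne')))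
  obtain ⟨m, hm⟩ : ∃ m : ↥(M ⊓ centralizer ({u} : Set G)), m ≠ 1 := by
    by_contra hcon
    push Not at hcon
    haveI : Subsingleton ↥(M ⊓ centralizer ({u} : Set G)) := ⟨fun a b => by rw [hcon a, hcon b]⟩
    rw [Nat.card_unique] at h5
    exact ht.out.not_dvd_one h5
  obtain ⟨a, ha, ham⟩ := m.2.1
  have hmu : Commute u (a : G) := by
    have := (mem_cent.1 m.2.2).symm
    rwa [← ham] at this
  have h6 := hker a (hufix a a.2 hmu) ha
  exact hm (Subtype.ext (by rw [← ham, h6]; simp))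

/-- A subgroup between `B` and `N`, normal, without involutions modulo `B`, gives a layer. -/
theorem layer_of_odd {N B X : Subgroup G} (hBX : B ≤ X) (hXN : X ≤ N) (hne : ¬ X ≤ B)
    (hBn : ∀ g ∈ N, ∀ x ∈ B, g * x * g⁻¹ ∈ B) (hXn : ∀ g ∈ N, ∀ x ∈ X, g * x * g⁻¹ ∈ X)
    (hinv : ∀ g ∈ X, g ^ 2 ∈ B → g ∈ B) : ∃ R r, Layer N B R r := by
  haveI hB' : (B.subgroupOf N).Normal := ⟨fun x hx y => hBn y y.2 x hx⟩
  haveI hX' : (X.subgroupOf N).Normal := ⟨fun x hx y => hXn y y.2 x hx⟩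
  set π := QuotientGroup.mk' (B.subgroupOf N) with hπ
  set Xb := (X.subgroupOf N).map π with hXb
  haveI : Xb.Normal := hX'.map π (QuotientGroup.mk'_surjective _)
  have hmem : ∀ {y : N}, π y ∈ Xb → (y : G) ∈ X := by
    rintro y ⟨z, hz, hzy⟩
    have h1 : (z : G)⁻¹ * y ∈ B := by
      have h2 : z⁻¹ * y ∈ B.subgroupOf N := QuotientGroup.eq.1 hzy
      simpa [mem_subgroupOf] using h2
    have := mul_mem (show (z : G) ∈ X from hz) (hBX h1)
    simpa using this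
  have hXne : Xb ≠ ⊥ := by
    intro h
    obtain ⟨x, hx, hxB⟩ := SetLike.not_le_iff_exists.1 hne
    have h1 : π ⟨x, hXN hx⟩ ∈ Xb := mem_map_of_mem π hx
    rw [h, mem_bot, hπ, QuotientGroup.mk'_apply, QuotientGroup.eq_one_iff] at h1
    exact hxB h1
  have hodd : Odd (Nat.card Xb) := by
    rw [Nat.odd_iff, ← Nat.two_dvd_ne_zero]
    intro h2
    haveI : Fact (Nat.Prime 2) := ⟨Nat.prime_two⟩
    obtain ⟨z, hz⟩ := exists_prime_orderOf_dvd_card' (G := Xb) 2 h2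
    obtain ⟨y, hy⟩ := QuotientGroup.mk'_surjective (B.subgroupOf N) (z : N ⧸ B.subgroupOf N)
    have hyX : (y : G) ∈ X := hmem (show π y ∈ Xb by rw [hπ, hy]; exact z.2)
    have h3 : π (y ^ 2) = 1 := by
      rw [map_pow, hπ, hy, ← SubgroupClass.coe_pow, ← hz, pow_orderOf_eq_one, OneMemClass.coe_one]
    rw [hπ, QuotientGroup.mk'_apply, QuotientGroup.eq_one_iff] at h3
    have h4 : (y : G) ∈ B := hinv _ hyX (by simpa [mem_subgroupOf] using h3)
    have h5 : z = 1 := Subtype.ext (by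
      rw [← hy]; exact (QuotientGroup.eq_one_iff y).2 h4)
    rw [h5, orderOf_one] at hz
    omega
  haveI := CfsgLib.FT.isSolvable_of_odd Xb hodd
  obtain ⟨M, hMn, hM, hMX, hmin⟩ := Coprime.exists_minimal_normal_le hXne
  haveI := hMn
  haveI : Group.IsSolvable M :=
    Group.isSolvable_of_isSolvable_injective (f := inclusion hMX) (inclusion_injective hMX)
  obtain ⟨-, r, hr, hpow⟩ := Coprime.minimal_normal_solvable hM hmin
  refine ⟨(M.comap π).map N.subtype, r, hr, ?_, map_subtype_le _, ?_, ?_, ?_⟩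
  · intro b hb
    refine ⟨⟨b, hXN (hBX hb)⟩, ?_, rfl⟩
    show π _ ∈ M
    rw [hπ, QuotientGroup.mk'_apply, (QuotientGroup.eq_one_iff (⟨b, hXN (hBX hb)⟩ : N)).2 hb]
    exact one_mem M
  · rintro g hg _ ⟨x, hx, rfl⟩
    refine ⟨⟨g, hg⟩ * x * ⟨g, hg⟩⁻¹, ?_, rfl⟩
    show π _ ∈ M
    rw [map_mul, map_mul, map_inv]
    exact hMn.conj_mem _ hx _
  · obtain ⟨⟨m, hm⟩, hm1⟩ := Subgroup.ne_bot_iff_exists_ne_one.1 hM
    obtain ⟨y, hy⟩ := QuotientGroup.mk'_surjective (B.subgroupOf N) m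
    refine ⟨y, ⟨y, show π y ∈ M by rw [hπ, hy]; exact hm, rfl⟩, fun hyB => hm1 (Subtype.ext ?_)⟩
    show m = 1
    rw [← hy]
    exact (QuotientGroup.eq_one_iff y).2 hyB
  · rintro _ ⟨y, hy, rfl⟩
    refine ⟨1, ?_⟩
    have h1 := hpow _ (show π y ∈ M from hy)
    rw [← map_pow, hπ, QuotientGroup.mk'_apply, QuotientGroup.eq_one_iff, mem_subgroupOf] at h1
    simpa using h1

/-- Existence of a layer, from an abelian group of odd order on which involutions modulo `B` have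
no fixed points outside `Z₀`. -/
theorem exists_layer {N B A Z₀ : Subgroup G} {q : ℕ} [hq : Fact q.Prime] (hq2 : q ≠ 2)
    (hBN : B ≤ N) (hNB : ¬ N ≤ B) (hBn : ∀ g ∈ N, ∀ x ∈ B, g * x * g⁻¹ ∈ B)
    (hA : ∀ a ∈ A, IsQ q a) (hAc : ∀ a ∈ A, ∀ b ∈ A, Commute a b)
    (hAn : ∀ g ∈ N, ∀ a ∈ A, g * a * g⁻¹ ∈ A) (hBA : ∀ b ∈ B, ∀ a ∈ A, Commute b a)
    (hZ : ∀ z ∈ Z₀, ∀ x ∈ N, Commute x z) (hne : ∃ a ∈ A, a ∉ Z₀)
    (hinv : ∀ g ∈ N, g ∉ B → g ^ 2 ∈ B → ∀ a ∈ A, Commute g a → a ∈ Z₀) :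
    ∃ R r, Layer N B R r := by
  have hz : ∀ z ∈ Z₀, ∀ x ∈ N, x * z * x⁻¹ = z := fun z hz x hx => by
    rw [(hZ z hz x hx).eq, mul_inv_cancel_right]
  -- the kernel of the action modulo `Z₀`
  let X : Subgroup G :=
    { carrier := {g | g ∈ N ∧ ∀ a ∈ A, g * a * g⁻¹ * a⁻¹ ∈ Z₀}
      one_mem' := ⟨one_mem N, fun a _ => by simp⟩
      mul_mem' := by
        rintro g k ⟨hg, hg'⟩ ⟨hk, hk'⟩
        refine ⟨mul_mem hg hk, fun a ha => ?_⟩
        have h1 := hk' a ha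
        have h2 := hg' a ha
        rw [show g * k * a * (g * k)⁻¹ * a⁻¹ =
          (g * (k * a * k⁻¹ * a⁻¹) * g⁻¹) * (g * a * g⁻¹ * a⁻¹) by group, hz _ h1 g hg]
        exact mul_mem h1 h2
      inv_mem' := by
        rintro g ⟨hg, hg'⟩
        refine ⟨inv_mem hg, fun a ha => ?_⟩
        have h1 := hg' _ (hAn _ (inv_mem hg) a ha)
        have h2 := inv_mem h1
        rwa [show (g * (g⁻¹ * a * g⁻¹⁻¹) * g⁻¹ * (g⁻¹ * a * g⁻¹⁻¹)⁻¹)⁻¹ =
          g⁻¹ * a * g⁻¹⁻¹ * a⁻¹ by group] at h2 }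
  have hXN : X ≤ N := fun g hg => hg.1
  have hBX : B ≤ X := fun b hb => ⟨hBN hb, fun a ha => by
    rw [(hBA b hb a ha).eq, mul_inv_cancel_right, mul_inv_cancel]; exact one_mem _⟩
  have hXn : ∀ g ∈ N, ∀ x ∈ X, g * x * g⁻¹ ∈ X := by
    rintro g hg x ⟨hx, hx'⟩
    refine ⟨mul_mem (mul_mem hg hx) (inv_mem hg), fun a ha => ?_⟩
    have h1 := hx' _ (hAn _ (inv_mem hg) a ha)
    rw [show g * x * g⁻¹ * a * (g * x * g⁻¹)⁻¹ * a⁻¹ =
      g * (x * (g⁻¹ * a * g⁻¹⁻¹) * x⁻¹ * (g⁻¹ * a * g⁻¹⁻¹)⁻¹) * g⁻¹ by group, hz _ h1 g hg]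
    exact h1
  have hXinv : ∀ g ∈ X, g ^ 2 ∈ B → g ∈ B := by
    rintro g ⟨hg, hg'⟩ h2
    by_contra hgB
    obtain ⟨a, ha, haZ⟩ := hne
    obtain ⟨z, hzdef⟩ : ∃ z, z = g * a * g⁻¹ * a⁻¹ := ⟨_, rfl⟩
    have hzZ : z ∈ Z₀ := hzdef ▸ hg' a ha
    have hzA : z ∈ A := hzdef ▸ mul_mem (hAn g hg a ha) (inv_mem ha)
    have e1 : g * a * g⁻¹ = z * a := by rw [hzdef]; group
    have e2 : g ^ 2 * a * (g ^ 2)⁻¹ = z ^ 2 * a := by
      calc g ^ 2 * a * (g ^ 2)⁻¹ = g * (g * a * g⁻¹) * g⁻¹ := by rw [pow_two]; group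
        _ = g * (z * a) * g⁻¹ := by rw [e1]
        _ = (g * z * g⁻¹) * (g * a * g⁻¹) := by group
        _ = z ^ 2 * a := by rw [hz z hzZ g hg, e1, pow_two, mul_assoc]
    rw [(hBA _ h2 a ha).eq, mul_inv_cancel_right, eq_comm, mul_eq_right] at e2
    have hz1 : z = 1 := (hA z hzA).eq_one_of_pow e2 fun h =>
      hq2 ((Nat.prime_dvd_prime_iff_eq hq.out Nat.prime_two).1 h)
    rw [hz1, one_mul] at e1
    exact haZ (hinv g hg hgB h2 a ha (mul_inv_eq_iff_eq_mul.1 e1))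
  by_cases hXB : X ≤ B
  swap
  · exact layer_of_odd hBX hXN hXB hBn hXn hXinv
  by_cases hu : ∀ g ∈ N, g ^ 2 ∈ B → g ∈ B
  · exact layer_of_odd hBN le_rfl hNB hBn (fun g hg x hx => mul_mem (mul_mem hg hx) (inv_mem hg)) hu
  push Not at hu
  obtain ⟨u, huN, hu2, huB⟩ := hu
  -- an involution modulo `B` inverts modulo `Z₀`
  have hi : ∀ a ∈ A, u * a * u⁻¹ * a ∈ Z₀ ∧ u⁻¹ * a * u = u * a * u⁻¹ := by
    intro a ha
    have hb2 := hBA _ hu2 a ha
    have e2 : u⁻¹ * a * u = u * a * u⁻¹ := by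
      calc u⁻¹ * a * u = u⁻¹ * (a * u ^ 2) * u⁻¹ := by rw [pow_two]; group
        _ = u⁻¹ * (u ^ 2 * a) * u⁻¹ := by rw [hb2.eq]
        _ = u * a * u⁻¹ := by rw [pow_two]; group
    have hmemA : u * a * u⁻¹ * a ∈ A := mul_mem (hAn u huN a ha) ha
    refine ⟨hinv u huN huB hu2 _ hmemA ?_, e2⟩
    have e3 : u * (u * a * u⁻¹) * u⁻¹ = a := by rw [← e2]; group
    show u * (u * a * u⁻¹ * a) = u * a * u⁻¹ * a * u
    calc u * (u * a * u⁻¹ * a) = (u * (u * a * u⁻¹) * u⁻¹) * (u * a * u⁻¹) * u := by group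
      _ = a * (u * a * u⁻¹) * u := by rw [e3]
      _ = u * a * u⁻¹ * a * u := by rw [(hAc a ha _ (hAn u huN a ha)).eq]
  have hcomm : ∀ g ∈ N, g * u * g⁻¹ * u⁻¹ ∈ B := by
    intro g hg
    refine hXB ⟨mul_mem (mul_mem (mul_mem hg huN) (inv_mem hg)) (inv_mem huN), fun a ha => ?_⟩
    obtain ⟨hb1, e2⟩ := hi a ha
    obtain ⟨c, hc⟩ : ∃ c, c = u * a * u⁻¹ * a := ⟨_, rfl⟩
    rw [← hc] at hb1
    have hga := hAn _ (inv_mem hg) a ha
    obtain ⟨hb2, -⟩ := hi _ (inv_mem hga)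
    obtain ⟨d, hd⟩ : ∃ d, d = u * (g⁻¹ * a * g⁻¹⁻¹)⁻¹ * u⁻¹ * (g⁻¹ * a * g⁻¹⁻¹)⁻¹ := ⟨_, rfl⟩
    rw [← hd] at hb2
    have e3 : g * u * g⁻¹ * u⁻¹ * a * (g * u * g⁻¹ * u⁻¹)⁻¹ = c * d * a := by
      calc g * u * g⁻¹ * u⁻¹ * a * (g * u * g⁻¹ * u⁻¹)⁻¹
          = g * (u * (g⁻¹ * (u⁻¹ * a * u) * g) * u⁻¹) * g⁻¹ := by group
        _ = g * (u * (g⁻¹ * (c * a⁻¹) * g) * u⁻¹) * g⁻¹ := by rw [e2, hc]; group
        _ = (g * (u * (g⁻¹ * c * g⁻¹⁻¹) * u⁻¹) * g⁻¹) *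
              (g * (u * (g⁻¹ * a * g⁻¹⁻¹)⁻¹ * u⁻¹) * g⁻¹) := by group
        _ = c * (g * (d * (g⁻¹ * a * g⁻¹⁻¹)) * g⁻¹) := by
            rw [hz c hb1 g⁻¹ (inv_mem hg), hz c hb1 u huN, hz c hb1 g hg, hd]; group
        _ = c * ((g * d * g⁻¹) * a) := by group
        _ = c * d * a := by rw [hz d hb2 g hg, mul_assoc]
    rw [e3, mul_inv_cancel_right]
    exact mul_mem hb1 hb2
  have hin : ∀ b ∈ B, ∀ g, g * u⁻¹ ∈ B → b * g * u⁻¹ ∈ B := fun b hb g hg => by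
    rw [mul_assoc]; exact mul_mem hb hg
  let R : Subgroup G :=
    { carrier := {g | g ∈ B ∨ g * u⁻¹ ∈ B}
      one_mem' := Or.inl (one_mem B)
      mul_mem' := by
        rintro g k (hg | hg) (hk | hk)
        · exact Or.inl (mul_mem hg hk)
        · exact Or.inr (hin g hg k hk)
        · refine Or.inr ?_
          rw [show g * k * u⁻¹ = (g * u⁻¹) * (u * k * u⁻¹) by group]
          exact mul_mem hg (hBn u huN k hk)
        · refine Or.inl ?_
          rw [show g * k = (g * u⁻¹) * (u * (k * u⁻¹) * u⁻¹) * u ^ 2 by rw [pow_two]; group]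
          exact mul_mem (mul_mem hg (hBn u huN _ hk)) hu2
      inv_mem' := by
        rintro g (hg | hg)
        · exact Or.inl (inv_mem hg)
        · refine Or.inr ?_
          rw [show g⁻¹ * u⁻¹ = u⁻¹ * (g * u⁻¹)⁻¹ * u⁻¹⁻¹ * (u ^ 2)⁻¹ by rw [pow_two]; group]
          exact mul_mem (hBn _ (inv_mem huN) _ (inv_mem hg)) (inv_mem hu2) }
  refine ⟨R, 2, Nat.prime_two, fun b hb => Or.inl hb, ?_, ?_,
    ⟨u, Or.inr (by simp), huB⟩, ?_⟩
  · rintro g (hg | hg)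
    · exact hBN hg
    · simpa using mul_mem (hBN hg) huN
  · rintro g hg x (hx | hx)
    · exact Or.inl (hBn g hg x hx)
    · refine Or.inr ?_
      rw [show g * x * g⁻¹ * u⁻¹ = (g * (x * u⁻¹) * g⁻¹) * (g * u * g⁻¹ * u⁻¹) by group]
      exact mul_mem (hBn g hg _ hx) (hcomm g hg)
  · rintro x (hx | hx)
    · exact ⟨0, by simpa using hx⟩
    · refine ⟨1, ?_⟩
      rw [pow_one, show x ^ 2 = (x * u⁻¹) * (u * (x * u⁻¹) * u⁻¹) * u ^ 2 by
        rw [pow_two, pow_two]; group]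
      exact mul_mem (mul_mem hx (hBn u huN _ hx)) hu2

/-- The `r`-elements of `B` are central in it, some lies outside `Z₀`, those have centraliser `B`
in `D`, and `B` does not have a full Sylow `r`-subgroup of `D`. -/
structure Good (D B Z₀ : Subgroup G) (r : ℕ) : Prop where
  central : ∀ a ∈ B, IsQ r a → ∀ b ∈ B, Commute a b
  ex : ∃ a ∈ B, IsQ r a ∧ a ∉ Z₀
  self : ∀ a ∈ B, IsQ r a → a ∉ Z₀ → D ⊓ centralizer ({a} : Set G) = B
  lt : vq r B < vq r D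

variable {D B Z₀ : Subgroup G} {r : ℕ}

/-- The subgroup of the `r`-elements of `B`. -/
def Good.part (h : Good D B Z₀ r) : Subgroup G where
  carrier := {a | a ∈ B ∧ IsQ r a}
  one_mem' := ⟨one_mem B, 0, one_pow _⟩
  mul_mem' := by
    rintro a b ⟨ha, k, hk⟩ ⟨hb, l, hl⟩
    refine ⟨mul_mem ha hb, k + l, ?_⟩
    rw [(h.central a ha ⟨k, hk⟩ b hb).mul_pow, pow_add, pow_mul, hk, one_pow, one_mul,
      mul_comm (r ^ k), pow_mul, hl, one_pow]
  inv_mem' := by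
    rintro a ⟨ha, k, hk⟩
    exact ⟨inv_mem ha, k, by rw [inv_pow, hk, inv_one]⟩

theorem Good.part_comm (h : Good D B Z₀ r) : ∀ a ∈ h.part, ∀ b ∈ h.part, Commute a b :=
  fun a ha b hb => h.central a ha.1 ha.2 b hb.1

theorem Good.part_conj (h : Good D B Z₀ r) {g : G} (hg : g ∈ normalizer (B : Set G)) :
    ∀ a ∈ h.part, g * a * g⁻¹ ∈ h.part :=
  fun a ha => ⟨(mem_normalizer_iff.1 hg a).1 ha.1, by
    obtain ⟨k, hk⟩ := ha.2
    exact ⟨k, by rw [conj_pow, hk, mul_one, mul_inv_cancel]⟩⟩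

theorem Good.le (h : Good D B Z₀ r) : B ≤ D := by
  obtain ⟨a, ha, har, haZ⟩ := h.ex
  exact (h.self a ha har haZ).ge.trans inf_le_left

theorem Good.self' (h : Good D B Z₀ r) {g a : G} (hg : g ∈ D) (ha : a ∈ h.part) (haZ : a ∉ Z₀)
    (hc : Commute g a) : g ∈ B :=
  h.self a ha.1 ha.2 haZ ▸ ⟨hg, mem_cent.2 hc⟩

/-- A `r`-element outside `B` normalising `B`. -/
theorem Good.exists_norm [hr : Fact r.Prime] (h : Good D B Z₀ r)
    (hZ : ∀ z ∈ Z₀, ∀ x ∈ D, Commute x z) :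
    ∃ u, u ∈ D ∧ u ∈ normalizer (B : Set G) ∧ IsQ r u ∧ u ∉ B := by
  have hAp : IsPGroup r h.part := fun a => by
    obtain ⟨k, hk⟩ := a.2.2
    exact ⟨k, Subtype.ext hk⟩
  have hAD : h.part ≤ D := fun a ha => h.le ha.1
  have hAcard : Nat.card h.part ≤ r ^ vq r B := ThreeCop.card_le_of_pGroup hAp fun a ha => ha.1
  obtain ⟨T, hAT, hT⟩ := ThreeCop.exists_full hAp hAD
  have hlt : h.part < T := lt_of_le_of_ne hAT fun e => by
    have h1 := hT.card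
    rw [← e] at h1
    exact absurd (h1 ▸ hAcard) (not_le.2 (Nat.pow_lt_pow_right hr.out.one_lt h.lt))
  haveI : Group.IsNilpotent T := hT.pg.isNilpotent
  have h3 := Group.normalizerCondition_of_isNilpotent (G := T) (h.part.subgroupOf T)
    (lt_of_le_of_ne le_top fun e => hlt.not_ge (subgroupOf_eq_top.1 e))
  obtain ⟨u, hu, hu'⟩ := SetLike.exists_of_lt h3
  have huconj : ∀ a ∈ h.part, (u : G) * a * (u : G)⁻¹ ∈ h.part := fun a ha =>
    (mem_normalizer_iff.1 hu ⟨a, hAT ha⟩).1 ha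
  have huq : IsQ r (u : G) := isQ_of_mem hT.pg u.2
  refine ⟨u, hT.le u.2, mem_normalizer_of_conj fun b hb => ?_, huq, fun huB => hu' ⟨huB, huq⟩⟩
  obtain ⟨a, ha, har, haZ⟩ := h.ex
  have ha' := huconj a ⟨ha, har⟩
  have haZ' : (u : G) * a * (u : G)⁻¹ ∉ Z₀ := fun hz => haZ (by
    have h1 := hZ _ hz (u : G) (hT.le u.2)
    have e : a = (u : G) * a * (u : G)⁻¹ := by
      calc a = (u : G)⁻¹ * ((u : G) * a * (u : G)⁻¹ * u) := by group
        _ = (u : G)⁻¹ * ((u : G) * ((u : G) * a * (u : G)⁻¹)) := by rw [h1.eq]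
        _ = _ := by group
    rwa [e])
  rw [← h.self _ ha'.1 ha'.2 haZ']
  exact Subgroup.mem_inf.2 ⟨mul_mem (mul_mem (hT.le u.2) (h.le hb)) (inv_mem (hT.le u.2)),
    mem_cent.2 (ThreeCop.commute_conj (h.central a ha har b hb).symm u)⟩

/-- Two good primes are impossible. -/
theorem pair_false {D B Z₀ : Subgroup G} {t q : ℕ} [ht : Fact t.Prime] [hq : Fact q.Prime]
    (htq : t ≠ q) (hZ : ∀ z ∈ Z₀, ∀ x ∈ D, Commute x z) (h₁ : Good D B Z₀ t)
    (h₂ : Good D B Z₀ q) : False := by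
  wlog hq2 : q ≠ 2 generalizing t q
  · exact this htq.symm h₂ h₁ fun e => htq (e.trans (not_not.1 hq2).symm)
  set N := D ⊓ normalizer (B : Set G) with hN
  have hBN : B ≤ N := le_inf h₁.le le_normalizer
  have hBn : ∀ g ∈ N, ∀ x ∈ B, g * x * g⁻¹ ∈ B := fun g hg x hx =>
    (mem_normalizer_iff.1 hg.2 x).1 hx
  have hZN : ∀ z ∈ Z₀, ∀ x ∈ N, Commute x z := fun z hz x hx => hZ z hz x hx.1
  have hfix : ∀ {r : ℕ} (h : Good D B Z₀ r), ∀ a ∈ h.part, ∀ g ∈ N, g ∉ B → Commute g a →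
      a ∈ Z₀ := fun h a ha g hg hgB hc => by
    by_contra haZ
    exact hgB (h.self' hg.1 ha haZ hc)
  obtain ⟨u, huD, hun, huq, huB⟩ := h₁.exists_norm hZ
  have hne : ∀ {r : ℕ} (h : Good D B Z₀ r), ∃ a ∈ h.part, a ∉ Z₀ := fun h => by
    obtain ⟨a, ha, har, haZ⟩ := h.ex
    exact ⟨a, ⟨ha, har⟩, haZ⟩
  obtain ⟨R, r, hR⟩ := exists_layer (A := h₂.part) hq2 hBN (fun h => huB (h ⟨huD, hun⟩)) hBn
    (fun a ha => ha.2) h₂.part_comm (fun g hg => h₂.part_conj hg.2)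
    (fun b hb a ha => (h₂.central a ha.1 ha.2 b hb).symm) hZN (hne h₂)
    (fun g hg hgB _ a ha => hfix h₂ a ha g hg hgB)
  have key : ∀ {s : ℕ} [Fact s.Prime] (h : Good D B Z₀ s), r ≠ s → False := by
    intro s _ h hrs
    obtain ⟨v, hvD, hvn, hvq, hvB⟩ := h.exists_norm hZ
    exact endgame (A := h.part) hrs hR hBn (fun a ha => ha.2) h.part_comm
      (fun g hg => h.part_conj hg.2) (fun b hb a ha => (h.central a ha.1 ha.2 b hb).symm) hZN
      (hne h) (fun a ha x hx hxB => hfix h a ha x (hR.leN hx) hxB) (⟨hvD, hvn⟩ : v ∈ N) hvq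
      (fun a ha => hfix h a ha v ⟨hvD, hvn⟩ hvB)
  by_cases e : r = t
  · exact key h₂ (e ▸ htq)
  · exact key h₁ e

end CfsgLib.ThreeSizes
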