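import Cfsg.Agent.Lib.PGroup.ThreeSizes.Semireg
import Cfsg.Agent.Lib.PGroup.ThreeSizesCoprime.Basic
import Cfsg.Agent.Lib.Char.Burnside

/-!
Class sizes `1, n₂, n₁`: elementary facts.
-/

set_option autoImplicit false
set_option linter.style.haveILetI false
set_option linter.unusedSectionVars false

namespace CfsgLib.ThreeSizes

open Subgroup
open CfsgLib.ThreeCop (IsQ Full vq mem_cent isQ_of_mem mem_normalizer_of_conj self_mem_cent)
open CfsgLib.ClassGraph (cidx)

universe u

variable {G : Type u} [Group G] [Finite G]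

/-- The class sizes are `1, n₂, n₁`. -/
structure Hyp (G : Type u) [Group G] (n₁ n₂ : ℕ) : Prop where
  lt : n₂ < n₁
  one_lt : 1 < n₂
  sizes : ∀ g : G, cidx g = 1 ∨ cidx g = n₂ ∨ cidx g = n₁

theorem coprime_of_isQ {p q : ℕ} (hp : p.Prime) (hq : q.Prime) (hne : p ≠ q) {a b : G}
    (ha : IsQ p a) (hb : IsQ q b) : (orderOf a).Coprime (orderOf b) := by
  obtain ⟨k, hk⟩ := ha
  obtain ⟨l, hl⟩ := hb
  exact ((((Nat.coprime_primes hp hq).2 hne).pow k l).coprime_dvd_left
    (orderOf_dvd_of_pow_eq_one hk)).coprime_dvd_right (orderOf_dvd_of_pow_eq_one hl)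

theorem coprime_mul_of_coprime {a b h : G} (hab : Commute a b)
    (ha : (orderOf h).Coprime (orderOf a)) (hb : (orderOf h).Coprime (orderOf b)) :
    (orderOf h).Coprime (orderOf (a * b)) :=
  (ha.mul_right hb).coprime_dvd_right hab.orderOf_mul_dvd_mul_orderOf

theorem cent_mul {a b : G} (hc : Commute a b) (hco : (orderOf a).Coprime (orderOf b)) :
    centralizer ({a * b} : Set G) = centralizer ({a} : Set G) ⊓ centralizer ({b} : Set G) :=
  le_antisymm (ClassGraph.centralizer_mul_le hc hco) fun _ hg =>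
    mem_cent.2 ((mem_cent.1 hg.1).mul_right (mem_cent.1 hg.2))

theorem mul_not_center {a b : G} (hc : Commute a b) (hco : (orderOf a).Coprime (orderOf b))
    (ha : a ∉ center G) : a * b ∉ center G := fun h => ha (ThreeCop.center_of_le_cent h
  ((ClassGraph.centralizer_mul_le hc hco).trans inf_le_left))

/-- The elements of a centraliser that are central in it. -/
def zc (C : Subgroup G) : Subgroup G := C ⊓ centralizer (C : Set G)

theorem mem_zc {C : Subgroup G} {z : G} : z ∈ zc C ↔ z ∈ C ∧ ∀ g ∈ C, Commute g z :=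
  ⟨fun h => ⟨h.1, fun g hg => mem_centralizer_iff.1 h.2 g hg⟩,
    fun h => ⟨h.1, mem_centralizer_iff.2 fun g hg => h.2 g hg⟩⟩

theorem le_cent_of_zc {C : Subgroup G} {z : G} (h : z ∈ zc C) :
    C ≤ centralizer ({z} : Set G) := fun g hg => mem_cent.2 ((mem_zc.1 h).2 g hg)

theorem center_le_zc (x : G) : center G ≤ zc (centralizer ({x} : Set G)) := fun _ hz =>
  mem_zc.2 ⟨center_le_centralizer _ hz, fun g _ => ThreeCop.commute_center hz g⟩

/-- Two subgroups with Sylow `t`-subgroups of one order: a `t`-element of one outside a central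
subgroup gives one in the other. -/
theorem exists_elem {t : ℕ} [Fact t.Prime] {X B B' : Subgroup G} (heq : vq t B' ≤ vq t B)
    (hX : ∀ z ∈ X, IsQ t z → z ∈ B') {y : G} (hy : y ∈ B') (hyq : IsQ t y) (hyX : y ∉ X)
    (hc : ∀ z ∈ X, IsQ t z → Commute y z) : ∃ a ∈ B, IsQ t a ∧ a ∉ X := by
  by_contra hcon
  push Not at hcon
  obtain ⟨R, hR⟩ := ThreeCop.exists_full' t B
  have hRX : R ≤ X := fun r hr => hcon r (hR.le hr) (isQ_of_mem hR.pg hr)
  have hn : y ∈ normalizer (R : Set G) := mem_normalizer_of_conj fun r hr => by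
    rw [(hc r (hRX hr) (isQ_of_mem hR.pg hr)).eq, mul_inv_cancel_right]; exact hr
  have h1 := ThreeCop.card_le_of_pGroup (ThreeCop.isPGroup_sup_zpowers hR.pg hyq hn)
    (sup_le (zpowers_le.2 hy) fun r hr => hX r (hRX hr) (isQ_of_mem hR.pg hr) :
      zpowers y ⊔ R ≤ B')
  replace h1 := h1.trans (Nat.pow_le_pow_right (Fact.out : t.Prime).pos heq)
  rw [← hR.card] at h1
  have e : R = zpowers y ⊔ R := eq_of_le_of_card_ge le_sup_right h1
  exact hyX (hRX (e ▸ mem_sup_left (mem_zpowers y)))

/-- If the `s'`-elements of `C` centralise full Sylow `s`-subgroups then `C` has a normal Sylow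
`s`-subgroup centralised by them. -/
theorem normal_part {s : ℕ} [hs : Fact s.Prime] (C : Subgroup G)
    (h : ∀ b ∈ C, ¬ s ∣ orderOf b → vq s (C ⊓ centralizer ({b} : Set G)) = vq s C) :
    ∃ T, Full s T C ∧ (∀ a ∈ C, IsQ s a → a ∈ T) ∧
      (∀ b ∈ C, ¬ s ∣ orderOf b → ∀ a ∈ T, Commute a b) := by
  obtain ⟨T, hT⟩ := ThreeCop.exists_full' s C
  let M : Subgroup G := T ⊔ (C ⊓ centralizer (T : Set G))
  have hMC : M ≤ C := sup_le hT.le inf_le_left
  have hMT : ∀ g ∈ M, g ∈ normalizer (T : Set G) := by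
    have : M ≤ normalizer (T : Set G) := sup_le le_normalizer
      (inf_le_right.trans (centralizer_le_normalizer (T : Set G)))
    exact this
  have hkey : ∀ b ∈ C, ¬ s ∣ orderOf b → ∀ a ∈ C, IsQ s a → Commute a b → ∃ c ∈ C,
      c * a * c⁻¹ ∈ T ∧ ∀ r ∈ T, Commute r (c * b * c⁻¹) := by
    intro b hb hbs a ha has hab
    obtain ⟨R₁, haR, hR₁⟩ := ThreeCop.exists_full (ThreeCop.isPGroup_zpowers has)
      (zpowers_le.2 (mem_inf.2 ⟨ha, mem_cent.2 hab⟩) : zpowers a ≤ C ⊓ centralizer ({b} : Set G))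
    have hR : Full s R₁ C := ⟨hR₁.le.trans inf_le_left, hR₁.pg, by rw [hR₁.card, h b hb hbs]⟩
    obtain ⟨c, hcC, hc⟩ := hR.conj hT
    refine ⟨c, hcC, hc a (haR (mem_zpowers a)), fun r hr => ?_⟩
    have e : R₁.map (MulAut.conj c).toMonoidHom = T := eq_of_le_of_card_ge
      (map_le_iff_le_comap.2 fun x hx => hc x hx)
      (le_of_eq (by rw [card_map_of_injective (MulAut.conj c).injective, hR.card, hT.card]))
    rw [← e] at hr
    obtain ⟨r₁, hr₁, rfl⟩ := hr
    exact ThreeCop.commute_conj (mem_cent.1 (hR₁.le hr₁).2) c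
  have htop : M.subgroupOf C = ⊤ := by
    refine PGroup.eq_top_of_forall_conj_mem _ fun g => ?_
    obtain ⟨a, b, hab, hg, has, hbs, haz, hbz⟩ := ThreeCop.parts s (g : G)
    have hbC : b ∈ C := zpowers_le.2 g.2 hbz
    obtain ⟨c, hcC, hca, hcb⟩ := hkey b hbC hbs a (zpowers_le.2 g.2 haz) has hab
    refine ⟨⟨c, hcC⟩⁻¹, ?_⟩
    rw [inv_inv]
    show c * (g : G) * c⁻¹ ∈ M
    rw [hg, show c * (a * b) * c⁻¹ = c * a * c⁻¹ * (c * b * c⁻¹) by group]
    refine mul_mem (mem_sup_left hca) (mem_sup_right (mem_inf.2 ⟨?_, ?_⟩))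
    · exact mul_mem (mul_mem hcC hbC) (inv_mem hcC)
    · exact mem_centralizer_iff.2 fun r hr => hcb r hr
  have hn : ∀ c ∈ C, c ∈ normalizer (T : Set G) := fun c hc => hMT c (by
    have h1 : (⟨c, hc⟩ : C) ∈ M.subgroupOf C := by rw [htop]; exact mem_top _
    exact h1)
  refine ⟨T, hT, fun a ha has => hT.mem_of_isQ ha has (hn a ha), fun b hb hbs a ha => ?_⟩
  obtain ⟨c, hcC, -, hc⟩ := hkey b hb hbs 1 (one_mem C) ⟨0, one_pow _⟩ (Commute.one_left b)
  have h1 := hc _ ((mem_normalizer_iff.1 (hn c hcC) a).1 ha)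
  simpa [mul_assoc] using ThreeCop.commute_conj h1 c⁻¹

/-- A product decomposition from subgroups of coprime index. -/
theorem exists_mul {A B : Subgroup G} (h : A.index.Coprime B.index) (g : G) :
    ∃ a ∈ A, ∃ b ∈ B, g = a * b := by
  have hst : MulAction.stabilizer A ((1 : G) : G ⧸ B) = B.subgroupOf A := by
    ext a
    rw [MulAction.mem_stabilizer_iff, mem_subgroupOf]
    show (((a : G) * 1 : G) : G ⧸ B) = _ ↔ _
    rw [mul_one, QuotientGroup.eq, mul_one, inv_mem_iff]
  have h1 : (MulAction.orbit A ((1 : G) : G ⧸ B)).ncard = B.relIndex A := by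
    rw [← MulAction.index_stabilizer, hst]; rfl
  have h2 : B.index ∣ B.relIndex A * A.index := by
    rw [← inf_relIndex_right, relIndex_mul_index inf_le_right]
    exact index_dvd_of_le inf_le_left
  have h3 : B.index ∣ B.relIndex A := (Nat.Coprime.dvd_of_dvd_mul_right h.symm h2)
  have horb : MulAction.orbit A ((1 : G) : G ⧸ B) = Set.univ := by
    refine Set.eq_of_subset_of_ncard_le (Set.subset_univ _) ?_ (Set.toFinite _)
    rw [Set.ncard_univ, h1, ← index_eq_card]
    exact Nat.le_of_dvd (Nat.pos_of_ne_zero (index_ne_zero_of_finite (H := B.subgroupOf A))) h3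
  obtain ⟨a, ha⟩ : ((g : G) : G ⧸ B) ∈ MulAction.orbit A ((1 : G) : G ⧸ B) := by
    rw [horb]; trivial
  have ha' : (((a : G) * 1 : G) : G ⧸ B) = (g : G ⧸ B) := ha
  rw [mul_one, QuotientGroup.eq] at ha'
  exact ⟨a, a.2, _, ha', by group⟩

variable {n₁ n₂ : ℕ} (h : Hyp G n₁ n₂)

include h in
theorem Hyp.idx {g : G} (hg : g ∉ center G) : cidx g = n₂ ∨ cidx g = n₁ :=
  (h.sizes g).resolve_left fun e => hg (ClassGraph.mem_center_of_cidx e)

include h in
theorem Hyp.not_center {g : G} (hg : cidx g = n₂ ∨ cidx g = n₁) : g ∉ center G := fun hc => by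
  have := h.one_lt
  have := h.lt
  rw [ClassGraph.cidx_of_mem_center hc] at hg
  omega

include h in
theorem Hyp.le_n₁ (g : G) : cidx g ≤ n₁ := by
  have := h.one_lt
  have := h.lt
  rcases h.sizes g with e | e | e <;> omega

theorem cidx_le_of_le {a b : G} (hle : centralizer ({a} : Set G) ≤ centralizer ({b} : Set G)) :
    cidx b ≤ cidx a :=
  Nat.le_of_dvd (Nat.pos_of_ne_zero index_ne_zero_of_finite) (index_dvd_of_le hle)

include h in
/-- A centraliser of least order is minimal. -/
theorem Hyp.eq_of_le_small {a b : G} (hle : centralizer ({a} : Set G) ≤ centralizer ({b} : Set G))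
    (hb : cidx b = n₁) : centralizer ({a} : Set G) = centralizer ({b} : Set G) :=
  ClassGraph.centralizer_eq_of_le hle
    (le_antisymm (cidx_le_of_le hle) (hb ▸ h.le_n₁ a))

include h in
/-- A centraliser of largest order is maximal. -/
theorem Hyp.eq_of_le_large {a b : G} (hle : centralizer ({a} : Set G) ≤ centralizer ({b} : Set G))
    (ha : cidx a = n₂) (hb : b ∉ center G) :
    centralizer ({a} : Set G) = centralizer ({b} : Set G) := by
  refine ClassGraph.centralizer_eq_of_le hle ?_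
  have h1 := cidx_le_of_le hle
  have := h.lt
  rcases h.idx hb with e | e
  · rw [e, ha]
  · omega

include h in
/-- Elements of coprime order are central in a centraliser of least order. -/
theorem Hyp.min_central {y g : G} (hy : cidx y = n₁) (hg : g ∈ centralizer ({y} : Set G))
    (hco : (orderOf g).Coprime (orderOf y)) :
    centralizer ({y} : Set G) ≤ centralizer ({g} : Set G) := by
  have hc : Commute y g := (mem_cent.1 hg).symm
  have hle := ClassGraph.centralizer_mul_le hc hco.symm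
  rw [← h.eq_of_le_small (hle.trans inf_le_left) hy]
  exact hle.trans inf_le_right

include h in
/-- Inside the centraliser of an element of larger centraliser. -/
theorem Hyp.mul_small {x b : G} (hx : cidx x = n₂) (hb : b ∈ centralizer ({x} : Set G))
    (hco : (orderOf x).Coprime (orderOf b))
    (hnle : b ∉ zc (centralizer ({x} : Set G))) : cidx (x * b) = n₁ := by
  have hc : Commute x b := (mem_cent.1 hb).symm
  have hxb := mul_not_center hc hco (h.not_center (Or.inl hx))
  refine (h.idx hxb).resolve_left fun e => hnle (mem_zc.2 ⟨hb, fun g hg => ?_⟩)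
  have hle := ClassGraph.centralizer_mul_le hc hco
  rw [← h.eq_of_le_large (hle.trans inf_le_left) e (h.not_center (Or.inl hx))] at hg
  exact mem_cent.1 (hle hg).2

/-- The `s`-part of a centraliser is determined by that of the class size. -/
theorem vq_cent_eq {s : ℕ} (g : G) :
    vq s (centralizer ({g} : Set G)) + (cidx g).factorization s = vq s (⊤ : Subgroup G) :=
  ThreeCop.vq_add s g

variable {s : ℕ} [hs : Fact s.Prime]

/-- A prime with a noncentral element divides a class size. -/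
theorem exists_dvd_cidx {y : G} (hy : IsQ s y) (hyZ : y ∉ center G) :
    ∃ g : G, s ∣ cidx g := by
  by_contra hcon
  push Not at hcon
  obtain ⟨R, hR⟩ := ThreeCop.exists_full (ThreeCop.isPGroup_zpowers hy) (le_top : zpowers y ≤ ⊤)
  have hC : centralizer (R : Set G) = ⊤ := by
    refine PGroup.eq_top_of_forall_conj_mem _ fun g => ?_
    obtain ⟨R₁, hR₁⟩ := ThreeCop.exists_full' s (centralizer ({g} : Set G))
    have hfull : Full s R₁ ⊤ := ⟨le_top, hR₁.pg, by
      rw [hR₁.card, ← vq_cent_eq g, Nat.factorization_eq_zero_of_not_dvd (hcon g), add_zero]⟩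
    obtain ⟨c, -, hc⟩ := hfull.conj hR.2
    refine ⟨c⁻¹, mem_centralizer_iff.2 fun r hr => ?_⟩
    have e : R₁.map (MulAut.conj c).toMonoidHom = R := eq_of_le_of_card_ge
      (map_le_iff_le_comap.2 fun x hx => hc x hx)
      (le_of_eq (by rw [card_map_of_injective (MulAut.conj c).injective, hfull.card, hR.2.card]))
    rw [← e] at hr
    obtain ⟨r₁, hr₁, rfl⟩ := hr
    rw [inv_inv]
    exact (ThreeCop.commute_conj (mem_cent.1 (hR₁.le hr₁)) c).eq
  refine hyZ (mem_center_iff.2 fun g => ?_)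
  exact (mem_centralizer_iff.1 (show g ∈ centralizer (R : Set G) by rw [hC]; exact mem_top g)
    y (R.zpowers_le.1 hR.1)).symm

theorem exists_pow_mul_pow {p q : ℕ} (hp : p.Prime) (hq : q.Prime) :
    ∀ {n : ℕ}, n ≠ 0 → (∀ r : ℕ, r.Prime → r ∣ n → r = p ∨ r = q) →
      ∃ i j : ℕ, n = p ^ i * q ^ j := by
  intro n
  induction n using Nat.strong_induction_on with
  | _ n ih =>
    intro hn h
    rcases eq_or_ne n 1 with rfl | h1
    · exact ⟨0, 0, by simp⟩
    obtain ⟨r, hr, m, rfl⟩ := Nat.exists_prime_and_dvd h1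
    have hm : m ≠ 0 := right_ne_zero_of_mul hn
    obtain ⟨i, j, e⟩ := ih m (lt_mul_left (Nat.pos_of_ne_zero hm) hr.one_lt) hm
      fun r' hr' hd => h r' hr' (hd.mul_left r)
    rcases h r hr (dvd_mul_right r m) with rfl | rfl
    · exact ⟨i + 1, j, by rw [e, pow_succ]; ring⟩
    · exact ⟨i, j + 1, by rw [e, pow_succ]; ring⟩

/-- A non-solvable group has noncentral elements of prime power order for at least three primes. -/
theorem exists_prime_ne (hG : ¬ Group.IsSolvable G) {p q : ℕ} (hp : p.Prime) (hq : q.Prime) :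
    ∃ r : ℕ, r.Prime ∧ r ≠ p ∧ r ≠ q ∧ ∃ y : G, IsQ r y ∧ y ∉ center G := by
  by_contra hcon
  push Not at hcon
  refine hG ?_
  have hdvd : ∀ r : ℕ, r.Prime → r ∣ Nat.card (G ⧸ center G) → r = p ∨ r = q := by
    intro r hr hd
    by_contra hne
    push Not at hne
    haveI := Fact.mk hr
    obtain ⟨z, hz⟩ := exists_prime_orderOf_dvd_card' r hd
    obtain ⟨g, rfl⟩ := QuotientGroup.mk'_surjective (center G) z
    obtain ⟨a, b, -, rfl, ha, hb, -, -⟩ := ThreeCop.parts r g
    have ha' : QuotientGroup.mk' (center G) a = 1 :=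
      (QuotientGroup.eq_one_iff a).2 (hcon r hr hne.1 hne.2 a ha)
    rw [map_mul, ha', one_mul] at hz
    exact hb (hz ▸ orderOf_map_dvd _ b)
  obtain ⟨i, j, hij⟩ : ∃ i j : ℕ, Nat.card (G ⧸ center G) = p ^ i * q ^ j :=
    exists_pow_mul_pow hp hq Nat.card_pos.ne' hdvd
  haveI := Char.isSolvable_of_card_two_primes hp hq (G ⧸ center G) i j hij
  haveI : Group.IsSolvable (center G) := by
    letI : CommGroup (center G) :=
      { (inferInstance : Group (center G)) with
        mul_comm := fun a b => Subtype.ext (mem_center_iff.1 b.2 a) }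
    infer_instance
  exact Group.isSolvable_of_ker_le_range (center G).subtype (QuotientGroup.mk' (center G))
    (by simp)

end CfsgLib.ThreeSizes
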