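import Cfsg.Agent.Lib.PGroup.ThreeSizes.Containment

/-!
Class sizes `1, n₂, n₁` in a non-solvable group: the configuration with three primes `a, b, s`,
`a` and `b` dividing the quotient `n₁/n₂` and `s` not, is impossible.
-/

set_option autoImplicit false
set_option linter.style.haveILetI false
set_option linter.unusedSectionVars false

namespace CfsgLib.ThreeSizes

open Subgroup
open CfsgLib.ThreeCop (IsQ Full vq mem_cent isQ_of_mem mem_normalizer_of_conj self_mem_cent)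
open CfsgLib.ClassGraph (cidx)

universe u

variable {G : Type u} [Group G] [Finite G] {n₁ n₂ : ℕ}

/-- The primes `a`, `b` divide the quotient, `s` does not, and `x` is a witness for containment. -/
structure Three (n₁ n₂ : ℕ) (x : G) (p a b s : ℕ) : Prop where
  cont : Cont n₁ n₂ x p
  ha : a.Prime
  hb : b.Prime
  hs : s.Prime
  hab : a ≠ b
  hga : Grows n₁ n₂ a
  hgb : Grows n₁ n₂ b
  hgs : ¬ Grows n₁ n₂ s
  exs : ∃ y : G, IsQ s y ∧ y ∉ center G

variable (h : Hyp G n₁ n₂) {x : G} {p a b s : ℕ} (T₃ : Three n₁ n₂ x p a b s)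

theorem Three.symm (T₃ : Three n₁ n₂ x p a b s) : Three n₁ n₂ x p b a s :=
  ⟨T₃.cont, T₃.hb, T₃.ha, T₃.hs, T₃.hab.symm, T₃.hgb, T₃.hga, T₃.hgs, T₃.exs⟩

theorem Three.sa (T₃ : Three n₁ n₂ x p a b s) : s ≠ a := fun e => T₃.hgs (e ▸ T₃.hga)

theorem Three.sb (T₃ : Three n₁ n₂ x p a b s) : s ≠ b := fun e => T₃.hgs (e ▸ T₃.hgb)

include h T₃ in
theorem Three.cont_prime {y : G} {r : ℕ} (c : Cont n₁ n₂ y r) : r = a ∨ r = b := by
  by_contra hne
  push Not at hne
  exact c.step1 h T₃.ha T₃.hb T₃.hab hne.1.symm hne.2.symm T₃.hga T₃.hgb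

variable {v : G} (hvq : IsQ s v) (hvZ : v ∉ center G)

include h T₃ hvq hvZ in
/-- Centralisers of `s`-elements have the smaller order. -/
theorem Three.small : cidx v = n₁ := by
  haveI := Fact.mk T₃.ha
  haveI := Fact.mk T₃.hb
  haveI := Fact.mk T₃.hs
  refine (h.idx hvZ).resolve_left fun hv => ?_
  set C := centralizer ({v} : Set G) with hC
  have hno : ∀ y ∈ C, ¬ s ∣ orderOf y → y ∈ zc C := by
    intro y hy hys
    by_contra hz
    have hco := hvq.coprime hys
    have hc : Commute v y := (mem_cent.1 hy).symm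
    rcases T₃.cont_prime h (⟨T₃.hs, hvq, hv, v * y, h.mul_small hv hy hco hz,
      (cent_mul hc hco).trans_le inf_le_left⟩ : Cont n₁ n₂ v s) with e | e
    · exact T₃.sa e
    · exact T₃.sb e
  have heq : ∀ y ∈ C, ¬ s ∣ orderOf y → y ∉ center G →
      centralizer ({y} : Set G) = C := fun y hy hys hyZ =>
    (h.eq_of_le_large (le_cent_of_zc (hno y hy hys)) hv hyZ).symm
  obtain ⟨T, hT, hTmem, hTcomm⟩ := T₃.cont.part h T₃.hgs hvq hvZ
  obtain ⟨y, hy, hyq, hyZ⟩ := T₃.cont.exists_in_cent h T₃.hga hvZ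
  have hys : ¬ s ∣ orderOf y := hyq.not_dvd_of_ne T₃.hs T₃.sa
  have hCy : centralizer ({y} : Set G) = C := heq y hy hys hyZ
  have hy2 : cidx y = n₂ := by rw [← hv]; exact congrArg Subgroup.index hCy
  -- the `s`-elements are central in `C`
  have hsz : ∀ z ∈ C, IsQ s z → z ∈ zc C := by
    intro z hz hzq
    by_contra hzc
    have hco := coprime_of_isQ T₃.ha T₃.hs T₃.sa.symm hyq hzq
    have hzy : z ∈ centralizer ({y} : Set G) := hCy.symm ▸ hz
    have hsm := h.mul_small hy2 hzy hco (by rw [hCy]; exact hzc)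
    obtain ⟨R, hR⟩ := ThreeCop.exists_full' b C
    have hRle : R ≤ centralizer ({y * z} : Set G) := by
      rw [cent_mul (mem_cent.1 hzy).symm hco, hCy]
      exact fun r hr => mem_inf.2 ⟨hR.le hr, mem_cent.2 (hTcomm r (hR.le hr)
        ((isQ_of_mem hR.pg hr).not_dvd_of_ne T₃.hs T₃.sb) z (hTmem z hz hzq)).symm⟩
    have h1 := ThreeCop.card_le_of_pGroup hR.pg hRle
    rw [hR.card] at h1
    have h2 := (Nat.pow_le_pow_iff_right T₃.hb.one_lt).1 h1
    exact absurd (h.vq_lt_grows T₃.hgb hsm hv) (not_lt.2 h2)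
  have hseq : ∀ z ∈ C, IsQ s z → z ∉ center G → centralizer ({z} : Set G) = C :=
    fun z hz hzq hzZ => (h.eq_of_le_large (le_cent_of_zc (hsz z hz hzq)) hv hzZ).symm
  by_cases hlt : vq b C < vq b (⊤ : Subgroup G)
  · obtain ⟨z, hz, hzq, hzZ⟩ := T₃.cont.exists_in_cent h T₃.hgb hvZ
    have hbz : ∀ w ∈ C, IsQ b w → w ∈ zc C := fun w hw hwq =>
      hno w hw (hwq.not_dvd_of_ne T₃.hs T₃.sb)
    exact pair_false (D := ⊤) (B := C) (Z₀ := center G) (t := s) (q := b) T₃.sb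
      (fun z hz g _ => ThreeCop.commute_center hz g)
      ⟨fun w hw hwq g hg => ((mem_zc.1 (hsz w hw hwq)).2 g hg).symm,
        ⟨v, self_mem_cent v, hvq, hvZ⟩, fun w hw hwq hwZ => by rw [top_inf_eq, hseq w hw hwq hwZ],
        T₃.cont.vq_lt_top' h T₃.hgs hvq hvZ hvZ⟩
      ⟨fun w hw hwq g hg => ((mem_zc.1 (hbz w hw hwq)).2 g hg).symm, ⟨z, hz, hzq, hzZ⟩,
        fun w hw hwq hwZ => by
          rw [top_inf_eq, heq w hw (hwq.not_dvd_of_ne T₃.hs T₃.sb) hwZ], hlt⟩
  · -- the Sylow `b`-subgroups are abelian and full in the centraliser of a `p`-element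
    have hp := T₃.cont.prime
    have hx := T₃.cont.idx
    set D := centralizer ({x} : Set G) with hD
    obtain ⟨R, hR⟩ := ThreeCop.exists_full' b C
    have hCb : vq b C = vq b (⊤ : Subgroup G) := by
      have := ThreeCop.vq_add b v
      rw [← hC] at this
      omega
    have hDb : vq b D = vq b C := by
      have h1 := ThreeCop.vq_add b x
      have h2 := ThreeCop.vq_add b v
      rw [← hD, hx] at h1
      rw [← hC, hv] at h2
      omega
    have hRtop : Full b R ⊤ := ⟨le_top, hR.pg, by rw [hR.card, hCb]⟩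
    have hzp : ∀ w ∈ D, IsQ b w → p ≠ b → w ∈ zc D := by
      intro w hw hwq hpb
      by_contra hwz
      obtain ⟨hsm, hcent⟩ := T₃.cont.small h T₃.hb hpb.symm hw hwq hwz
      obtain ⟨R', hwR', hR'⟩ := ThreeCop.exists_full (ThreeCop.isPGroup_zpowers hwq)
        (zpowers_le.2 hw)
      have hR'top : Full b R' ⊤ := ⟨le_top, hR'.pg, by rw [hR'.card, hDb, hCb]⟩
      obtain ⟨c, -, hc⟩ := hR'top.conj hRtop
      have hle : R' ≤ centralizer ({x * w} : Set G) := by
        rw [hcent]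
        refine fun r hr => mem_inf.2 ⟨hR'.le hr, mem_cent.2 ?_⟩
        have h3 := (mem_zc.1 (hno _ (hR.le (hc w (hwR' (mem_zpowers w))))
          ((isQ_of_mem hR.pg (hc w (hwR' (mem_zpowers w)))).not_dvd_of_ne T₃.hs T₃.sb))).2 _
          (hR.le (hc r hr))
        simpa [mul_assoc] using ThreeCop.commute_conj h3 c⁻¹
      have h1 := ThreeCop.card_le_of_pGroup hR'.pg hle
      rw [hR'.card] at h1
      have h2 := (Nat.pow_le_pow_iff_right T₃.hb.one_lt).1 h1
      exact absurd (h.vq_lt_grows T₃.hgb hsm hx) (not_lt.2 h2)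
    by_cases hpb : p = b
    · -- then some `a`-element has the larger centraliser and containment
      subst hpb
      obtain ⟨w, hw, hwq, hwz⟩ := T₃.cont.exists_noncentral h T₃.hga
      obtain ⟨hsm, hcent⟩ := T₃.cont.small h T₃.ha T₃.hab hw hwq hwz
      obtain ⟨R', hxR', hR'⟩ := ThreeCop.exists_full
        (ThreeCop.isPGroup_zpowers T₃.cont.isQ) (zpowers_le.2 (self_mem_cent x) : zpowers x ≤ D)
      have hR'top : Full p R' ⊤ := ⟨le_top, hR'.pg, by rw [hR'.card, hDb, hCb]⟩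
      obtain ⟨c, -, hc⟩ := hR'top.conj hRtop
      have hxc := hc x (hxR' (mem_zpowers x))
      have hxs : ¬ s ∣ orderOf (c * x * c⁻¹) := (isQ_of_mem hR.pg hxc).not_dvd_of_ne T₃.hs T₃.sb
      have hCx : centralizer ({c * x * c⁻¹} : Set G) = C :=
        heq _ (hR.le hxc) hxs (fun hz => T₃.cont.not_center h (by
          simpa [mul_assoc] using (inferInstance : (center G).Normal).conj_mem _ hz c⁻¹))
      have hw' : c * w * c⁻¹ ∈ C := by
        rw [← hCx]
        exact (ThreeCop.mem_cent_conj c).2 hw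
      have hz := hno _ hw' ((hwq.conj (hq := Fact.mk T₃.ha) c).not_dvd_of_ne T₃.hs T₃.sa)
      refine hwz (mem_zc.2 ⟨hw, fun g hg => ?_⟩)
      have h3 := (mem_zc.1 hz).2 (c * g * c⁻¹) (by rw [← hCx]; exact (ThreeCop.mem_cent_conj c).2 hg)
      simpa [mul_assoc] using ThreeCop.commute_conj h3 c⁻¹
    · obtain ⟨w, hw, hwq, hwz⟩ := T₃.cont.exists_noncentral h T₃.hgb
      exact hwz (hzp w hw hwq hpb)

include h T₃ hvq hvZ in
/-- Elements of order prime to `s` are central in `C(v)`. -/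
theorem Three.reg_central {y : G} (hy : y ∈ centralizer ({v} : Set G)) (hys : ¬ s ∣ orderOf y) :
    centralizer ({v} : Set G) ≤ centralizer ({y} : Set G) := by
  haveI := Fact.mk T₃.hs
  exact h.min_central (T₃.small h hvq hvZ) hy (hvq.coprime hys).symm

include h T₃ hvq hvZ in
/-- An element of `C(v)` outside the center of a larger centraliser containing it. -/
theorem Three.exists_outside {r r' : ℕ} [Fact r.Prime] [Fact r'.Prime] (hrr : r ≠ r')
    (hrs : r ≠ s) (hrs' : r' ≠ s) (hgr : Grows n₁ n₂ r') {y : G}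
    (hy : y ∈ centralizer ({v} : Set G)) (hyq : IsQ r y) (hy2 : cidx y = n₂) :
    ∃ z ∈ centralizer ({v} : Set G), IsQ r' z ∧ z ∉ zc (centralizer ({y} : Set G)) := by
  haveI := Fact.mk T₃.hs
  set C := centralizer ({v} : Set G) with hC
  set D := centralizer ({y} : Set G) with hD
  have hys : ¬ s ∣ orderOf y := hyq.not_dvd_of_ne T₃.hs hrs.symm
  have hCD : C ≤ D := T₃.reg_central h hvq hvZ hy hys
  have hv1 := T₃.small h hvq hvZ
  have c : Cont n₁ n₂ y r := ⟨Fact.out, hyq, hy2, v, hv1, hCD⟩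
  by_contra hcon
  push Not at hcon
  obtain ⟨w, hw, hwq, hwz⟩ := c.exists_noncentral h hgr
  obtain ⟨hB, hBC⟩ := c.small h Fact.out hrr.symm hw hwq hwz
  obtain ⟨v', hv', hv'q, hv'Z⟩ := c.exists_in_cent' h T₃.hgs hvq hvZ
    (h.not_center (Or.inr hB))
  rw [hBC, mem_inf] at hv'
  obtain ⟨R, hR⟩ := ThreeCop.exists_full' r' C
  have hRz : ∀ r ∈ R, r ∈ zc D := fun r hr => hcon r (hR.le hr) (isQ_of_mem hR.pg hr)
  have hR' : Full r' R (centralizer ({v'} : Set G)) := by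
    refine ⟨fun r hr => mem_cent.2 ((mem_zc.1 (hRz r hr)).2 v' hv'.1).symm, hR.pg, ?_⟩
    have h1 := ThreeCop.vq_add r' v
    have h2 := ThreeCop.vq_add r' v'
    rw [T₃.small h hv'q hv'Z] at h2
    rw [hv1] at h1
    rw [hR.card]
    congr 1
    rw [← hC] at h1
    omega
  refine hwz (hRz w (hR'.mem_of_isQ (mem_cent.2 (mem_cent.1 hv'.2).symm) hwq ?_))
  exact mem_normalizer_of_conj fun r hr => by
    rw [((mem_zc.1 (hRz r hr)).2 w hw).eq, mul_inv_cancel_right]; exact hr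

include h T₃ hvq hvZ in
/-- The `s`-elements of `C(v)` have centraliser `C(v)`. -/
theorem Three.s_self {t : G} (ht : t ∈ centralizer ({v} : Set G)) (htq : IsQ s t)
    (htZ : t ∉ center G) : centralizer ({t} : Set G) = centralizer ({v} : Set G) := by
  haveI := Fact.mk T₃.ha
  haveI := Fact.mk T₃.hb
  haveI := Fact.mk T₃.hs
  set C := centralizer ({v} : Set G) with hC
  have hv1 := T₃.small h hvq hvZ
  have ht1 := T₃.small h htq htZ
  obtain ⟨y, hy, hyq, hyZ⟩ := T₃.cont.exists_in_cent h T₃.hga hvZ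
  have hys : ¬ s ∣ orderOf y := hyq.not_dvd_of_ne T₃.hs T₃.sa
  have hCy := T₃.reg_central h hvq hvZ hy hys
  have hty : t ∈ centralizer ({y} : Set G) := hCy ht
  -- an element `e` of order prime to `s` with centraliser `C`
  obtain ⟨e, hce, hes, hCe⟩ : ∃ e, Commute t e ∧ ¬ s ∣ orderOf e ∧
      centralizer ({e} : Set G) = C ∧ cidx e = n₁ := by
    rcases h.idx hyZ with hy2 | hy1
    · obtain ⟨z, hz, hzq, hzz⟩ := T₃.exists_outside h hvq hvZ T₃.hab T₃.sa.symm T₃.sb.symm T₃.hgb hy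
        hyq hy2
      have hzs : ¬ s ∣ orderOf z := hzq.not_dvd_of_ne T₃.hs T₃.sb
      have hCz := T₃.reg_central h hvq hvZ hz hzs
      have hco := coprime_of_isQ T₃.ha T₃.hb T₃.hab hyq hzq
      have hzy : z ∈ centralizer ({y} : Set G) := hCy hz
      have hcyz : Commute y z := (mem_cent.1 hzy).symm
      refine ⟨y * z, ((mem_cent.1 hty)).mul_right (mem_cent.1 (hCz ht)), ?_, ?_,
        h.mul_small hy2 hzy hco hzz⟩
      · intro hd
        rcases T₃.hs.dvd_mul.1 (hd.trans hcyz.orderOf_mul_dvd_mul_orderOf) with h' | h'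
        · exact hys h'
        · exact hzs h'
      · exact (h.eq_of_le_small ((cent_mul hcyz hco).symm ▸ le_inf hCy hCz)
          (h.mul_small hy2 hzy hco hzz)).symm
    · exact ⟨y, mem_cent.1 hty, hys, (h.eq_of_le_small hCy hy1).symm, hy1⟩
  have hle := h.min_central hCe.2 (mem_cent.2 hce) (htq.coprime hes)
  rw [hCe.1] at hle
  exact (h.eq_of_le_small hle ht1).symm

include h T₃ hvq hvZ in
theorem Three.central {w : G} (hw : w ∈ centralizer ({v} : Set G)) :
    (IsQ s w → ∀ g ∈ centralizer ({v} : Set G), Commute w g) ∧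
    (¬ s ∣ orderOf w → ∀ g ∈ centralizer ({v} : Set G), Commute w g) := by
  refine ⟨fun hwq g hg => ?_, fun hws g hg => (mem_cent.1 (T₃.reg_central h hvq hvZ hw hws hg)).symm⟩
  by_cases hwZ : w ∈ center G
  · exact (ThreeCop.commute_center hwZ g).symm
  · rw [← T₃.s_self h hvq hvZ hw hwq hwZ] at hg
    exact (mem_cent.1 hg).symm

include h T₃ hvq hvZ in
theorem Three.good_s : Good (⊤ : Subgroup G) (centralizer ({v} : Set G)) (center G) s :=
  haveI := Fact.mk T₃.hs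
  ⟨fun _ hw hwq => (T₃.central h hvq hvZ hw).1 hwq, ⟨v, self_mem_cent v, hvq, hvZ⟩,
    fun w hw hwq hwZ => by rw [top_inf_eq, T₃.s_self h hvq hvZ hw hwq hwZ],
    T₃.cont.vq_lt_top' h T₃.hgs hvq hvZ hvZ⟩

include h T₃ hvq hvZ in
/-- No `a`-element of `C(v)` has a larger centraliser. -/
theorem Three.no_large {y : G} (hy : y ∈ centralizer ({v} : Set G)) (hyq : IsQ a y) :
    cidx y ≠ n₂ := by
  intro hy2
  haveI := Fact.mk T₃.ha
  haveI := Fact.mk T₃.hb
  haveI := Fact.mk T₃.hs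
  set C := centralizer ({v} : Set G) with hC
  set D := centralizer ({y} : Set G) with hD
  have hv1 := T₃.small h hvq hvZ
  have hys : ¬ s ∣ orderOf y := hyq.not_dvd_of_ne T₃.hs T₃.sa
  have hCD : C ≤ D := T₃.reg_central h hvq hvZ hy hys
  have c : Cont n₁ n₂ y a := ⟨T₃.ha, hyq, hy2, v, hv1, hCD⟩
  have hD' : ∀ {r : ℕ}, r.Prime → r ≠ s → ∀ w ∈ C, IsQ r w → C ≤ centralizer ({w} : Set G) := by
    intro r hr hrs w hw hwq
    exact T₃.reg_central h hvq hvZ hw (hwq.not_dvd_of_ne (hq := Fact.mk hr) T₃.hs hrs.symm)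
  obtain ⟨z, hz, hzq, hzz⟩ := T₃.exists_outside h hvq hvZ T₃.hab T₃.sa.symm T₃.sb.symm T₃.hgb hy
    hyq hy2
  have hgb : Good D C (zc D) b := by
    refine ⟨fun w hw hwq g hg => (mem_cent.1 (hD' T₃.hb T₃.sb.symm w hw hwq hg)).symm,
      ⟨z, hz, hzq, hzz⟩, fun w hw hwq hwz => ?_, h.vq_lt_grows T₃.hgb hv1 hy2⟩
    obtain ⟨hsm, hcent⟩ := c.small h T₃.hb T₃.hab.symm (hCD hw) hwq hwz
    rw [← hcent]
    exact (h.eq_of_le_small (hcent ▸ le_inf hCD (hD' T₃.hb T₃.sb.symm w hw hwq)) hsm).symm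
  have hZD : ∀ w ∈ zc D, ∀ g ∈ D, Commute g w := fun w hw => (mem_zc.1 hw).2
  by_cases hii : ∃ y' ∈ zc D, IsQ b y' ∧ y' ∉ center G
  · -- two primes with the same larger centraliser
    obtain ⟨y', hy', hy'q, hy'Z⟩ := hii
    have hDy' : D = centralizer ({y'} : Set G) :=
      h.eq_of_le_large (le_cent_of_zc hy') hy2 hy'Z
    have hy'C : y' ∈ C := mem_cent.2 ((mem_zc.1 hy').2 v (hCD (self_mem_cent v))).symm
    have hy'2 : cidx y' = n₂ := by rw [← hy2]; exact (congrArg Subgroup.index hDy').symm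
    obtain ⟨z', hz', hz'q, hz'z⟩ := T₃.exists_outside h hvq hvZ T₃.hab.symm T₃.sb.symm T₃.sa.symm
      T₃.hga hy'C hy'q hy'2
    rw [← hDy'] at hz'z
    have c' : Cont n₁ n₂ y' b := ⟨T₃.hb, hy'q, hy'2, v, hv1, hDy' ▸ hCD⟩
    refine pair_false (D := D) (B := C) (Z₀ := zc D) (t := a) (q := b) T₃.hab hZD
      ⟨fun w hw hwq g hg => (mem_cent.1 (hD' T₃.ha T₃.sa.symm w hw hwq hg)).symm,
        ⟨z', hz', hz'q, hz'z⟩, fun w hw hwq hwz => ?_, h.vq_lt_grows T₃.hga hv1 hy2⟩ hgb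
    rw [hDy'] at hwz ⊢
    obtain ⟨hsm, hcent⟩ := c'.small h T₃.ha T₃.hab (by rw [← hDy']; exact hCD hw) hwq hwz
    rw [← hcent]
    exact (h.eq_of_le_small (hcent ▸ le_inf (hDy' ▸ hCD) (hD' T₃.ha T₃.sa.symm w hw hwq)) hsm).symm
  push Not at hii
  set N := normalizer (C : Set G) with hN
  have hgs := T₃.good_s h hvq hvZ
  have hZN : ∀ w ∈ center G, ∀ g ∈ N, Commute g w := fun w hw g _ => ThreeCop.commute_center hw g
  have hBn : ∀ g ∈ N, ∀ w ∈ C, g * w * g⁻¹ ∈ C := fun g hg w hw => (mem_normalizer_iff.1 hg w).1 hw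
  have hCN : C ≤ N := le_normalizer
  obtain ⟨T, hT, hTmem, -⟩ := T₃.cont.part h T₃.hgs hvq hvZ
  -- `s`-elements outside `C` fix nothing noncentral in `C`
  have hsemi : ∀ g ∈ N, IsQ s g → g ∉ C → ∀ w ∈ C, (∀ c ∈ C, Commute w c) → Commute g w →
      w ∈ center G := by
    intro g hg hgq hgC w hw hwc hgw
    by_contra hwZ
    have hn : g ∈ normalizer (T : Set G) := mem_normalizer_of_conj fun r hr =>
      hTmem _ (hBn g hg r (hT.le hr)) ((isQ_of_mem hT.pg hr).conj g)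
    have hle : zpowers g ⊔ T ≤ centralizer ({w} : Set G) := sup_le
      (zpowers_le.2 (mem_cent.2 hgw)) fun r hr => mem_cent.2 (hwc r (hT.le hr)).symm
    have h1 := ThreeCop.card_le_of_pGroup (ThreeCop.isPGroup_sup_zpowers hT.pg hgq hn) hle
    rw [T₃.cont.vq_eq h T₃.hgs hwZ hvZ, ← hT.card] at h1
    have e : T = zpowers g ⊔ T := eq_of_le_of_card_ge le_sup_right h1
    exact hgC (hT.le (e ▸ mem_sup_left (mem_zpowers g)))
  have hpartb : ∀ w ∈ hgb.part, ∀ c ∈ C, Commute w c := fun w hw c hc =>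
    hgb.central w hw.1 hw.2 c hc
  have hneb : ∃ w ∈ hgb.part, w ∉ center G :=
    ⟨z, ⟨hz, hzq⟩, fun hc => hzz (center_le_zc y hc)⟩
  -- elements with a power in `C` and fixing a noncentral `b`-element lie in `C`
  have hsfix : ∀ g ∈ N, g ∉ C → ∀ k : ℕ, g ^ s ^ k ∈ C → ∀ w ∈ hgb.part, Commute g w →
      w ∈ center G := by
    intro g hg hgC k hk w hw hgw
    obtain ⟨g₁, g₂, h12, rfl, hg₁, hg₂, hz₁, -⟩ := ThreeCop.parts s g
    have hg₂C : g₂ ∈ C := mem_of_pow_mem h12 hg₁ hg₂ hk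
    refine hsemi g₁ (zpowers_le.2 hg hz₁) hg₁ (fun hc => hgC (mul_mem hc hg₂C)) w hw.1
      (fun c hc => hpartb w hw c hc) ?_
    obtain ⟨j, hj⟩ := hz₁
    rw [← hj]
    exact hgw.zpow_left j
  obtain ⟨w₀, -, hw₀n, hw₀q, hw₀C⟩ := hgs.exists_norm fun z hz g _ => ThreeCop.commute_center hz g
  obtain ⟨u, huD, hun, huq, huC⟩ := hgb.exists_norm hZD
  have hlayer : ∃ R r, Layer N C R r := by
    by_cases hs2 : s = 2
    · haveI := Fact.mk T₃.hb
      refine exists_layer (A := hgb.part) (Z₀ := center G) (q := b) (fun e => T₃.sb (hs2.trans e.symm))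
        hCN (fun hle => hw₀C (hle hw₀n)) hBn (fun w hw => hw.2) hgb.part_comm
        (fun g hg => hgb.part_conj hg) (fun c hc w hw => (hpartb w hw c hc).symm) hZN hneb ?_
      intro g hg hgC hg2 w hw hgw
      exact hsfix g hg hgC 1 (by rw [pow_one, hs2]; exact hg2) w hw hgw
    · exact exists_layer (A := hgs.part) (Z₀ := center G) hs2
        hCN (fun hle => hw₀C (hle hw₀n)) hBn (fun w hw => hw.2) hgs.part_comm
        (fun g hg => hgs.part_conj hg) (fun c hc w hw => (hgs.central w hw.1 hw.2 c hc).symm) hZN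
        ⟨v, ⟨self_mem_cent v, hvq⟩, hvZ⟩
        fun g _ hgC _ w hw hgw => by
          by_contra hwZ
          exact hgC (hgs.self' (mem_top g) hw hwZ hgw)
  obtain ⟨R, r, hR⟩ := hlayer
  by_cases hrs : r = s
  · subst hrs
    refine endgame (A := hgb.part) (Z₀ := center G) (t := b) T₃.sb hR hBn (fun w hw => hw.2)
      hgb.part_comm (fun g hg => hgb.part_conj hg) (fun c hc w hw => (hpartb w hw c hc).symm) hZN
      hneb ?_ (show u ∈ N from hun) huq ?_
    · intro w hw g hg hgC hgw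
      obtain ⟨k, hk⟩ := hR.pow g hg
      exact hsfix g (hR.leN hg) hgC k hk w hw hgw
    · intro w hw huw
      by_contra hwZ
      exact huC (hgb.self' huD hw (fun hzw => hwZ (hii w hzw hw.2)) huw)
  · refine endgame (A := hgs.part) (Z₀ := center G) (t := s) hrs hR hBn (fun w hw => hw.2)
      hgs.part_comm (fun g hg => hgs.part_conj hg)
      (fun c hc w hw => (hgs.central w hw.1 hw.2 c hc).symm) hZN ⟨v, ⟨self_mem_cent v, hvq⟩, hvZ⟩
      ?_ (show w₀ ∈ N from hw₀n) hw₀q ?_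
    · intro w hw g _ hgC hgw
      by_contra hwZ
      exact hgC (hgs.self' (mem_top g) hw hwZ hgw)
    · intro w hw hgw
      by_contra hwZ
      exact hw₀C (hgs.self' (mem_top _) hw hwZ hgw)

include h T₃ in
theorem Three.absurd' : False := by
  haveI := Fact.mk T₃.ha
  haveI := Fact.mk T₃.hb
  haveI := Fact.mk T₃.hs
  obtain ⟨v, hvq, hvZ⟩ := T₃.exs
  obtain ⟨y, hy, hyq, hyZ⟩ := T₃.cont.exists_in_cent h T₃.hga hvZ
  set C := centralizer ({v} : Set G) with hC
  have hgs := T₃.good_s h hvq hvZ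
  refine pair_false (D := ⊤) (B := C) (Z₀ := center G) (t := s) (q := a) T₃.sa
    (fun z hz g _ => ThreeCop.commute_center hz g) hgs
    ⟨fun w hw hwq => (T₃.central h hvq hvZ hw).2 (hwq.not_dvd_of_ne T₃.hs T₃.sa),
      ⟨y, hy, hyq, hyZ⟩, fun w hw hwq hwZ => ?_, h.vq_lt_top T₃.hga (T₃.small h hvq hvZ)⟩
  rw [top_inf_eq]
  exact (h.eq_of_le_small (T₃.reg_central h hvq hvZ hw (hwq.not_dvd_of_ne T₃.hs T₃.sa))
    ((h.idx hwZ).resolve_left (T₃.no_large h hvq hvZ hw hwq))).symm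

/-- In a non-solvable group with three class sizes no centraliser properly contains another. -/
theorem no_cont (h : Hyp G n₁ n₂) (hG : ¬ Group.IsSolvable G) {x : G} {p : ℕ}
    (c : Cont n₁ n₂ x p) : False := by
  obtain ⟨q, hq, hgq⟩ := c.exists_grows h
  haveI := Fact.mk hq
  by_cases h2 : ∃ t : ℕ, t.Prime ∧ t ≠ q ∧ Grows n₁ n₂ t
  · obtain ⟨t, ht, htq, hgt⟩ := h2
    obtain ⟨r, hr, hrt, hrq, hy⟩ := exists_prime_ne hG ht hq
    refine Three.absurd' h (⟨c, ht, hq, hr, htq, hgt, hgq, fun hgr => ?_, hy⟩ :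
      Three n₁ n₂ x p t q r)
    by_cases h1 : t = p
    · exact c.step1 h hr hq hrq (fun e => hrt (e.trans h1.symm))
        (fun e => htq (h1.trans e.symm)) hgr hgq
    · by_cases h3 : q = p
      · exact c.step1 h hr ht hrt (fun e => hrq (e.trans h3.symm)) h1 hgr hgt
      · exact c.step1 h ht hq htq h1 h3 hgt hgq
  push Not at h2
  obtain ⟨r, hr, hrq, -, hy⟩ := exists_prime_ne hG hq hq
  obtain ⟨r', hr', hr'q, hr'r, hy'⟩ := exists_prime_ne hG hq hr
  haveI := Fact.mk hr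
  haveI := Fact.mk hr'
  obtain ⟨v, hvq, hvZ⟩ := hy
  obtain ⟨w, hwq, hwZ⟩ := hy'
  exact c.two_out h (Ne.symm hr'r) (h2 r hr hrq) (h2 r' hr' hr'q) hvq hvZ hwq hwZ

end CfsgLib.ThreeSizes
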